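import Groth.Agent.CycCov.K419.Hurwitz
import Groth.Agent.IntSh.K879.DualCmp
import Groth.Agent.OmegaSh.K583.ExtPowPull
import Groth.Agent.Fga.PicMon

/-!
# The determinant of the dual of a finite locally free module
-/

set_option autoImplicit false
universe u
open CategoryTheory CategoryTheory.Limits AlgebraicGeometry Opposite TopologicalSpace
open Groth.Agent.Sga67.Sec Groth.Agent.Sga67.LocBasis Groth.Agent.Sga67.ExtSheaf
open Groth.Agent.Sga67.TensorOps K875.PowSec K875.DetTensor
open Groth.Agent.Krr.H463.HomBasis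
open Groth.Agent.CohqB.HomSheaf (homSheaf)

namespace K419.DetDual

variable {X : Scheme.{u}} {E : X.Modules} {n : ℕ}

theorem isLocBasis_one (U : X.Opens) : IsLocBasis (M := Coh.structureModule X) (fun _ : Fin 1 => one X U) := by
  have := (isGen_one (X := X)).restrict (le_top : U ≤ ⊤)
  rw [res_one] at this
  exact this

/-- The dual basis. -/
noncomputable def db {U : X.Opens} {b : Fin n → Sec E U} (hb : IsLocBasis b) (i : Fin n) :
    Sec (homSheaf E (Coh.structureModule X)) U := hsec (N := Coh.structureModule X) hb (one X U) i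

theorem isLocBasis_db {U : X.Opens} {b : Fin n → Sec E U} (hb : IsLocBasis b) : IsLocBasis (db hb) :=
  isLocBasis_hsec hb (isLocBasis_one U)

theorem db_apply {U V : X.Opens} (h : V ≤ U) {b : Fin n → Sec E U} (hb : IsLocBasis b) (i j : Fin n) :
    toO (cS (res _ h (db hb i)) le_rfl (res E h (b j))) = if i = j then 1 else 0 := by
  have h1 := congrFun (ev_res_hsec (N := Coh.structureModule X) hb (one X U) i h) j
  rw [ev_apply] at h1
  refine (congrArg toO h1).trans ?_
  rw [res_one, Pi.single_apply]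
  by_cases hij : i = j
  · rw [if_pos hij, if_pos hij.symm]
    exact toO_one
  · rw [if_neg hij, if_neg (Ne.symm hij)]
    exact toO_zero

/-- The transition matrices of a basis and of its dual basis. -/
theorem det_mul {U V : X.Opens} (h : V ≤ U) {b : Fin n → Sec E U} (hb : IsLocBasis b)
    {b' : Fin n → Sec E V} (hb' : IsLocBasis b') (G H : Matrix (Fin n) (Fin n) Γ(X, V))
    (hG : ∀ i, res E h (b i) = ∑ j, G i j • b' j)
    (hH : ∀ i, res _ h (db hb i) = ∑ j, H i j • db hb' j) : H.det * G.det = 1 := by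
  have key : H * G.transpose = 1 := by
    ext i j
    rw [Matrix.mul_apply, Matrix.one_apply, ← db_apply h hb i j, hG j, map_sum]
    have h1 : ∀ l, toO (cS (res _ h (db hb i)) le_rfl (G j l • b' l)) = H i l * G j l := by
      intro l
      rw [map_smul, toO_smul, hH i]
      have h2 : cS (∑ m, H i m • db hb' m) le_rfl (b' l) = ∑ m, H i m • cS (db hb' m) le_rfl (b' l) := by
        have h3 : ∀ (T : Finset (Fin n)), cS (∑ m ∈ T, H i m • db hb' m) le_rfl (b' l) =
            ∑ m ∈ T, H i m • cS (db hb' m) le_rfl (b' l) := by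
          classical
          intro T
          induction T using Finset.induction_on with
          | empty =>
            rw [Finset.sum_empty, Finset.sum_empty]
            have := cS_smul (le_refl V) (0 : Γ(X, V)) (0 : Sec (homSheaf E (Coh.structureModule X)) V) (b' l)
            rw [zero_smul, map_zero, zero_smul] at this
            exact this
          | insert m T hm ih =>
            rw [Finset.sum_insert hm, Finset.sum_insert hm, cS_add, ih, cS_self_smul]
        exact h3 Finset.univ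
      rw [h2]
      have h4 : ∀ m, toO (H i m • cS (db hb' m) le_rfl (b' l)) = H i m * if m = l then 1 else 0 := by
        intro m
        rw [toO_smul]
        have h5 := db_apply (le_refl V) hb' m l
        rw [res_self, res_self] at h5
        rw [h5]
      have h6 : toO (∑ m, H i m • cS (db hb' m) le_rfl (b' l)) = ∑ m, toO (H i m • cS (db hb' m) le_rfl (b' l)) :=
        rfl
      rw [h6]
      simp only [h4, mul_ite, mul_one, mul_zero, Finset.sum_ite_eq', Finset.mem_univ, if_true]
      exact mul_comm _ _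
    have h7 : toO (∑ l, cS (res _ h (db hb i)) le_rfl (G j l • b' l)) =
        ∑ l, toO (cS (res _ h (db hb i)) le_rfl (G j l • b' l)) := rfl
    rw [h7]
    refine Finset.sum_congr rfl fun l _ => ?_
    rw [h1, Matrix.transpose_apply]
  have h8 := congrArg Matrix.det key
  rwa [Matrix.det_mul, Matrix.det_transpose, Matrix.det_one] at h8

theorem exists_matrix {M : X.Modules} {U V : X.Opens} (h : V ≤ U) (b : Fin n → Sec M U)
    {b' : Fin n → Sec M V} (hb' : IsLocBasis b') :
    ∃ G : Matrix (Fin n) (Fin n) Γ(X, V), ∀ i, res M h (b i) = ∑ j, G i j • b' j := by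
  have h1 : ∀ i, ∃ g : Fin n → Γ(X, V), res M h (b i) = ∑ j, g j • b' j := by
    intro i
    obtain ⟨g, hg⟩ := (hb' V le_rfl).2 (res M h (b i))
    refine ⟨g, ?_⟩
    rw [← hg, comb_apply]
    simp only [res_self]
  choose G hG using h1
  exact ⟨G, hG⟩

theorem res_phi {M L : X.Modules} (φ : Phi n M L) (hφ : PhiComp φ) {U V : X.affineOpens} (h : V.1 ≤ U.1)
    (b : Fin n → Sec M U.1) (b' : Fin n → Sec M V.1) (G : Matrix (Fin n) (Fin n) Γ(X, V.1))
    (hG : ∀ i, res M h (b i) = ∑ j, G i j • b' j) :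
    res L h ((φ U).symm (exteriorPower.ιMulti Γ(X, U.1) n b)) =
      G.det • (φ V).symm (exteriorPower.ιMulti Γ(X, V.1) n b') := by
  refine (hφ U V h b).trans ?_
  have e1 : (fun j => res M h (b j)) = fun i => ∑ j, G i j • b' j := funext fun i => hG i
  rw [← Hurwitz.phi_symm_alt φ V G b', ← e1]

/-- The generator of `det(E^∨) ⊗ det E`. -/
noncomputable def gn {D D' : X.Modules} (φ : Phi n E D) (φ' : Phi n (homSheaf E (Coh.structureModule X)) D')
    (V : X.affineOpens) (b : Fin n → Sec E V.1) (hb : IsLocBasis b) : Sec (CohB1.tensorMod D' D) V.1 :=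
  mulR D' D ((φ V).symm (exteriorPower.ιMulti Γ(X, V.1) n b)) ((φ' V).symm (exteriorPower.ιMulti Γ(X, V.1) n (db hb)))

theorem isGen_gn {D D' : X.Modules} {φ : Phi n E D} (hφ : PhiComp φ)
    {φ' : Phi n (homSheaf E (Coh.structureModule X)) D'} (hφ' : PhiComp φ')
    (V : X.affineOpens) (b : Fin n → Sec E V.1) (hb : IsLocBasis b) : IsGen (gn φ φ' V b hb) :=
  (isGen_top φ' hφ' (isLocBasis_db hb)).tensor (isGen_top φ hφ hb)

theorem res_gn {D D' : X.Modules} {φ : Phi n E D} (hφ : PhiComp φ)
    {φ' : Phi n (homSheaf E (Coh.structureModule X)) D'} (hφ' : PhiComp φ')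
    (U V : X.affineOpens) (h : V.1 ≤ U.1) (b : Fin n → Sec E U.1) (hb : IsLocBasis b)
    (b' : Fin n → Sec E V.1) (hb' : IsLocBasis b') :
    res _ h (gn φ φ' U b hb) = gn φ φ' V b' hb' := by
  obtain ⟨G, hG⟩ := exists_matrix h b hb'
  obtain ⟨H, hH⟩ := exists_matrix h (db hb) (isLocBasis_db hb')
  have e1 := res_phi φ hφ h b b' G hG
  have e2 := res_phi φ' hφ' h (db hb) (db hb') H hH
  have e3 := det_mul h hb hb' G H hG hH
  unfold gn
  rw [res_mulR, e1, e2, map_smul]
  refine (congrArg (fun z => H.det • z) (mulR_smul D' D G.det _ _)).trans ?_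
  rw [smul_smul, e3, one_smul]

/-- `O ≅ det(E^∨) ⊗ det E`. -/
theorem nonempty_iso (hE : FlatMod.IsFinLocFreeOfRank n E) {D D' : X.Modules} (hD : ExtPow.IsExtPow n E D)
    (hD' : ExtPow.IsExtPow n (homSheaf E (Coh.structureModule X)) D') :
    Nonempty (Coh.structureModule X ≅ CohB1.tensorMod D' D) := by
  obtain ⟨φ, hφ⟩ := exists_phi hD
  obtain ⟨φ', hφ'⟩ := exists_phi hD'
  refine nonempty_iso_of_gens (ι := Σ V : X.affineOpens, {b : Fin n → Sec E V.1 // IsLocBasis b})
    (B := fun i => i.1.1) ?_ _ _ (fun i => one X i.1.1)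
    (fun i => gn φ φ' i.1 i.2.1 i.2.2)
    (fun i => isLocBasis_one _) (fun i => isGen_gn hφ hφ' i.1 i.2.1 i.2.2) ?_
  · rw [Opens.isBasis_iff_nbhd]
    intro O x hx
    obtain ⟨W, hW, e, hxW, he⟩ := Groth.Agent.Krr.H463.Wedge.exists_affine_basis hE hx
    exact ⟨_, ⟨⟨W, e, he⟩, rfl⟩, hxW, hW⟩
  · rintro ⟨U, b, hb⟩ ⟨V, b', hb'⟩ h
    refine ⟨1, by rw [one_smul]; exact res_one X h, ?_⟩
    rw [one_smul]
    exact res_gn hφ hφ' U V h b hb b' hb'

open Groth.Agent.Fga.PicMon in
/-- `[det(E^∨)] · [det E] = 1` for `E^∨ = RefHull.dual E`. -/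
theorem mc_mul (hE : FlatMod.IsFinLocFreeOfRank n E) {D D' : X.Modules} (hD : ExtPow.IsExtPow n E D)
    (hD' : ExtPow.IsExtPow n (RefHull.dual E) D') : mc D' * mc D = 1 := by
  obtain ⟨e⟩ := K879.DualCmp.nonempty_iso (N := Coh.structureModule X) hE
  have hq : Coh.IsQCoh (homSheaf E (Coh.structureModule X)) :=
    Groth.Agent.PerfA.QCohEpi.isQCoh_of_isFinLocFree (Groth.Agent.Krr.H463.DualLam.isFinLocFree_of_rank
      (Groth.Agent.Krr.H463.DualLam.isFinLocFreeOfRank_homSheaf hE))
  have h1 := K583.ExtPowPull.isExtPow_of_iso_left hq e hD'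
  obtain ⟨e'⟩ := nonempty_iso hE hD h1
  rw [← mc_tensor, ← mc_eq e', mc_one]

end K419.DetDual
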