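import Groth.Agent.CycCov.K419.CanPn
import Groth.Agent.CycCov.K419.DetDual
import Groth.Agent.Grass.K652.LfRank
import Groth.Agent.CycCov.K926.LocW

/-!
# Étale coordinates on a simple cyclic cover branched along a smooth divisor
-/

set_option autoImplicit false
universe u

open CategoryTheory CategoryTheory.Limits AlgebraicGeometry Opposite TopologicalSpace

namespace K419.CanCoord

open K926.Str K926.Base K926.Frame K926.Cov K926.Branch K926.Loc K419.CanLoc
open Groth.Agent.CurvesC.NodeEt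

variable {k : Type u} [Field k] {X Y : Scheme.{u}}
variable {L : X.Modules} {N : ℕ} {s : Coh.structureModule X ⟶ CohB1.tensorPow L N} {π : Y ⟶ X}
  {f : X ⟶ Spec (CommRingCat.of k)}

/-- Étale coordinates exist on a simple cyclic cover branched along a smooth divisor. -/
theorem exists_coord [Smooth f] [IsIntegral X] {D : Fin 1 → X.IdealSheafData}
    (hL : PicF.IsInvertible L) (hD : LogNCD.IsNCD D f)
    (hs : CycCov.IsZeroDiv (CohB1.tensorPow L N) s (CycCov.divIdeal D (fun _ => 1)))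
    (R : CycCov.Root L N s π) (hR : CycCov.IsSimple R) (hN : 0 < N) (hNk : (N : k) ≠ 0) {n : ℕ}
    (hn : ∀ (U : X.affineOpens) (m : ℕ) (v : Fin m → Γ(X, U.1)), (U.1 : Set X).Nonempty →
      IsCoord f U.1 v → m = n) (y : Y) :
    ∃ (V : Y.affineOpens) (v : Fin n → Γ(Y, V.1)), y ∈ V.1 ∧ IsCoord (π ≫ f) V.1 v := by
  have : IsAffineHom π := hR.1
  obtain ⟨d, hxd, -, hnorm⟩ := exists_locData_normalized f hL hD hs (O := ⊤) (x := π y) trivial
  obtain rfl := hn d.U d.n d.c.v ⟨_, hxd⟩ d.coord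
  have hf' : ∀ d' : LocData f D (fun _ => 1) s, d'.u * ∏ j, d'.c.g j ^ 1 = d'.u * d'.c.g 0 := by
    intro d'
    rw [Finset.univ_unique, Finset.prod_singleton, pow_one]
    rfl
  rcases hj : d.c.e 0 with _ | l
  · have hs' := d.hs
    rw [hf' d, d.c.g_none 0 hj, mul_one] at hs'
    exact ⟨⟨π ⁻¹ᵁ d.U.1, d.U.2.preimage π⟩, _, hxd, coord_unit R hR hN hNk d.U.2 d.he hs' d.hu d.coord⟩
  · have hx0 : π y ∈ (D 0).support := by
      by_contra h
      rw [hnorm 0 h] at hj
      cases hj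
    have hcx : π y ∉ X.basicOpen (d.c.v l) := by
      rw [← d.c.g_some 0 l hj]
      rw [← K922.Chart.mem_support_iff_span (D 0) d.U (d.c.g 0) _ (π y) hxd]
      · exact hx0
      · have := d.c.ideal 0 d.U le_rfl
        rwa [Groth.Agent.Sga67.Sec.resO_self] at this
    obtain ⟨W, hWd, hxW, hδ⟩ := d.exists_delta hxd (e := 1) (by rw [Nat.cast_one]; exact one_ne_zero) 1 hcx
    set d' := d.restrict W hWd with hd'
    letI := algk f d'.U.1
    have h1 : IsEtaleCoord k (Function.update d'.c.v l (d'.u * d'.c.v l)) := by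
      apply K926.Coord.coord_scale d'.isEtaleCoord l d'.u
      have h2 : d'.delta l 1 1 = d'.u + d'.c.v l * (d'.isEtaleCoord).pd l d'.u := by
        unfold LocData.delta
        rw [Nat.cast_one, one_mul, one_mul]
        rfl
      rwa [h2] at hδ
    have hs' := d'.hs
    have hj' : d'.c.e 0 = some l := hj
    rw [hf' d', d'.c.g_some 0 l hj'] at hs'
    have h3 : Function.update d'.c.v l (d'.u * d'.c.v l) l = d'.u * d'.c.v l := Function.update_self _ _ _
    exact ⟨⟨π ⁻¹ᵁ d'.U.1, d'.U.2.preimage π⟩, _, hxW,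
      coord_root R hR d'.U.2 d'.he (v := Function.update d'.c.v l (d'.u * d'.c.v l)) h1 l
        (hs'.trans (congrArg (fun z => z • lp d'.e N) h3.symm))⟩

/-- The module of differentials of the cover is locally free of rank `n`. -/
theorem isFinLocFreeOfRank_omega (f : X ⟶ Spec (CommRingCat.of k)) [IsIntegral X] [QuasiSeparated f] (n : ℕ)
    [SmoothOfRelativeDimension n f] {L : X.Modules} (hL : PicF.IsInvertible L) {N : ℕ} (hN : 0 < N)
    (hNk : (N : k) ≠ 0) {D : Fin 1 → X.IdealSheafData} (hD : LogNCD.IsNCD D f)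
    {s : Coh.structureModule X ⟶ CohB1.tensorPow L N}
    (hs : CycCov.IsZeroDiv (CohB1.tensorPow L N) s (CycCov.divIdeal D (fun _ => 1)))
    (π : Y ⟶ X) (R : CycCov.Root L N s π) (hR : CycCov.IsSimple R) [QuasiSeparated (π ≫ f)] :
    FlatMod.IsFinLocFreeOfRank n (Omega.sheaf (π ≫ f)) := by
  have hsm : Smooth f := SmoothOfRelativeDimension.smooth n f
  rw [K652.LfRank.iff_locBasis]
  intro y
  obtain ⟨V, v, hy, hv⟩ := exists_coord hL hD hs R hR hN hNk (CanMain.eq_of_isCoord f n) y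
  exact ⟨V.1, hy, _, (isCoord922 (V := V) hv).isLocBasis
    (K922.Univ.affUniv (K136.UnivOmega.isUniversal_dOmega (π ≫ f)))⟩

/-- The cover is smooth. -/
theorem smooth (f : X ⟶ Spec (CommRingCat.of k)) [IsIntegral X] [QuasiSeparated f] (n : ℕ)
    [SmoothOfRelativeDimension n f] {L : X.Modules} (hL : PicF.IsInvertible L) {N : ℕ} (hN : 0 < N)
    (hNk : (N : k) ≠ 0) {D : Fin 1 → X.IdealSheafData} (hD : LogNCD.IsNCD D f)
    {s : Coh.structureModule X ⟶ CohB1.tensorPow L N}
    (hs : CycCov.IsZeroDiv (CohB1.tensorPow L N) s (CycCov.divIdeal D (fun _ => 1)))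
    (π : Y ⟶ X) (R : CycCov.Root L N s π) (hR : CycCov.IsSimple R) :
    Smooth (π ≫ f) := by
  have hsm : Smooth f := SmoothOfRelativeDimension.smooth n f
  have h1 : Smooth ((⊤ : Y.Opens).ι ≫ π ≫ f) := smooth_ι_of_nhds (π ≫ f) ⊤ fun y _ => by
    obtain ⟨V, v, hy, hv⟩ := exists_coord hL hD hs R hR hN hNk (CanMain.eq_of_isCoord f n) y
    exact ⟨V.1, hy, le_top, IsCoord.smooth V.2 hv⟩
  rw [← Category.assoc] at h1
  have h2 : π ≫ f = Y.topIso.inv ≫ ((⊤ : Y.Opens).ι ≫ π) ≫ f := by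
    rw [← Scheme.topIso_hom, Category.assoc, Iso.inv_hom_id_assoc]
  rw [h2]
  infer_instance

end K419.CanCoord
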