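import Groth.Agent.CycCov.K419.CanLoc
import Groth.Agent.CycCov.K892.Frames

/-!
# Local data for the Hurwitz formula of a simple cyclic cover: differentials
-/

set_option autoImplicit false
universe u

open CategoryTheory CategoryTheory.Limits AlgebraicGeometry Opposite TopologicalSpace

namespace K419.CanDiff

open K926.Str K926.Base K926.Frame K926.Cov K926.Branch K926.Loc K419.CanLoc
open Groth.Agent.CurvesC.NodeEt

variable {k : Type u} [Field k] {X Y : Scheme.{u}}
variable {L : X.Modules} {N : ℕ} {s : Coh.structureModule X ⟶ CohB1.tensorPow L N} {π : Y ⟶ X}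
  {f : X ⟶ Spec (CommRingCat.of k)}

open Groth.Agent.Sga67.Sec Groth.Agent.Sga67.LocBasis Groth.Agent.Sga67.ExtSheaf
open K875.PowSec K875.DetTensor K922.DSec K419.Hurwitz Groth.Agent.Krr.H490.LocBasisPull

theorem dS_pow {Z S : Scheme.{u}} {g : Z ⟶ S} {Ω' : Z.Modules} (d : OmegaSh.Der g Ω') (U : Z.Opens)
    (a : Γ(Z, U)) (n : ℕ) : dS d U (a ^ (n + 1)) = ((n + 1 : ℕ) * a ^ n : Γ(Z, U)) • dS d U a := by
  induction n with
  | zero => simp
  | succ n ih =>
    rw [pow_succ, dS_mul, ih, smul_smul, ← add_smul]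
    congr 1
    push_cast
    ring

theorem pl_self (π : Y ⟶ X) {U : X.Opens} (h : π ⁻¹ᵁ U ≤ π ⁻¹ᵁ U) (a : Γ(X, U)) :
    pl π h a = (π.app U).hom a := by
  unfold pl
  rw [← Scheme.Hom.app_eq_appLE]

theorem isGen_smul {M : X.Modules} {V : X.Opens} {l : Sec M V} (hl : IsGen l) {a : Γ(X, V)} (ha : IsUnit a) :
    K875.PowSec.IsGen (a • l) := by
  apply isGen_of_bijective
  intro V' h
  have h1 : (fun b : Γ(X, V') => b • res M h (a • l)) =
      (fun b : Γ(X, V') => b • res M h l) ∘ (fun b => b * resO X h a) := by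
    funext b
    change b • res M h (a • l) = (b * resO X h a) • res M h l
    rw [res_smul, smul_smul]
  rw [h1]
  have h2 : Function.Bijective (fun b : Γ(X, V') => b * resO X h a) :=
    (ha.map (resO X h)).unit.mulRight_bijective
  refine Function.Bijective.comp ?_ h2
  have h3 := (hl.restrict h).equiv.bijective
  have h4 : ((hl.restrict h).equiv : Γ(X, V') → _) = fun b : Γ(X, V') => b • res M h l := by
    funext b
    rw [IsGen.equiv_apply]
  rwa [h4] at h3

variable {ΩX : X.Modules} {dX : OmegaSh.Der f ΩX} {ΩY : Y.Modules} {dY : OmegaSh.Der (π ≫ f) ΩY}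
  {c : (Scheme.Modules.pullback π).obj ΩX ⟶ ΩY} {n : ℕ} {ωY : Y.Modules} {φY : Phi n ΩY ωY}

theorem appS_psec_dS (hc : OmegaSh.IsDiffCompat π dX dY c) {U : X.Opens} {V : Y.Opens} (h : V ≤ π ⁻¹ᵁ U)
    (a : Γ(X, U)) : appS c V (psec π ΩX h (dS dX U a)) = dS dY V (pl π h a) :=
  K583.BaseChange.compSec_app hc U V h a

/-- The Hurwitz datum of an unramified chart. -/
theorem exists_dat_unit (hφY : PhiComp φY) (hdX : OmegaSh.IsUniversal dX) (hdY : OmegaSh.IsUniversal dY)
    (hc : OmegaSh.IsDiffCompat π dX dY c)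
    (R : CycCov.Root L N s π) (hR : CycCov.IsSimple R) (hN : 0 < N) (hNk : (N : k) ≠ 0)
    {U : X.Opens} (hU : IsAffineOpen U)
    {e : Γ(L, U)} (he : Groth.Agent.Fdesc.LocGen.IsGen e) {g : Γ(X, U)} (hg : Groth.Agent.Fdesc.LocGen.sec s U = g • lp e N) (hgu : IsUnit g)
    {v : Fin n → Γ(X, U)} (hv : IsCoord f U v) :
    ∃ d : Dat R c φY, d.V.1 = π ⁻¹ᵁ U := by
  have : IsAffineHom π := hR.1
  have hV : IsAffineOpen (π ⁻¹ᵁ U) := hU.preimage π
  let V : Y.affineOpens := ⟨π ⁻¹ᵁ U, hV⟩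
  have hv' : IsCoord (π ≫ f) V.1 (fun j => (π.app U).hom (v j)) := coord_unit R hR hN hNk hU he hg hgu hv
  have ht : R.t ⟨U, hU⟩ e (isGen_of_isGen he) ^ N = (π.app U).hom g := R.pow_eq ⟨U, hU⟩ e (isGen_of_isGen he) g hg
  have htu : IsUnit (R.t ⟨U, hU⟩ e (isGen_of_isGen he)) := by
    rw [← isUnit_pow_iff hN.ne', ht]
    exact hgu.map _
  have hb := (isCoord922 (V := V) hv').isLocBasis (K922.Univ.affUniv hdY)
  have hb0 := (isCoord922 (V := ⟨U, hU⟩) hv).isLocBasis (K922.Univ.affUniv hdX)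
  have hgen := isGen_top φY hφY (U := V) hb
  have hself : resO Y (le_refl V.1) (R.t ⟨U, hU⟩ e (isGen_of_isGen he)) = R.t ⟨U, hU⟩ e (isGen_of_isGen he) :=
    resO_self _ _
  refine ⟨{ U := ⟨U, hU⟩, V := V, hV := le_rfl, e := e, he := isGen_of_isGen he,
            he' := K892.Frames.gen_iff.mpr he, w := fun j => dS dX U (v j), hw := hb0,
            m := ((htu.pow (N - 1)).unit⁻¹ : Γ(Y, V.1)ˣ).val • (φY V).symm (exteriorPower.ιMulti Γ(Y, V.1) n
              (fun j => dS dY V.1 ((π.app U).hom (v j)))),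
            hm := isGen_smul hgen (Units.isUnit _), reg := ?_, rel := ?_ }, rfl⟩
  · intro W hW a ha
    have h1 : IsUnit (resO Y hW (R.t ⟨U, hU⟩ e (isGen_of_isGen he))) := htu.map _
    exact h1.mul_right_eq_zero.mp ha
  · rw [hself, smul_smul]
    have h1 : R.t ⟨U, hU⟩ e (isGen_of_isGen he) ^ (N - 1) * ((htu.pow (N - 1)).unit⁻¹ : Γ(Y, V.1)ˣ).val = 1 :=
      (htu.pow (N - 1)).mul_val_inv
    rw [h1, one_smul]
    congr 2
    funext i
    rw [← pl_self π le_rfl]
    exact (appS_psec_dS hc le_rfl (v i)).symm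

/-- The Hurwitz datum of a ramified chart. -/
theorem exists_dat_root (hφY : PhiComp φY) (hdX : OmegaSh.IsUniversal dX) (hdY : OmegaSh.IsUniversal dY)
    (hc : OmegaSh.IsDiffCompat π dX dY c)
    (R : CycCov.Root L N s π) (hR : CycCov.IsSimple R) (hN : 0 < N) (hNk : (N : k) ≠ 0)
    {U : X.Opens} (hU : IsAffineOpen U)
    {e : Γ(L, U)} (he : Groth.Agent.Fdesc.LocGen.IsGen e)
    {v : Fin n → Γ(X, U)} (hv : IsCoord f U v) (l : Fin n)
    (hg : Groth.Agent.Fdesc.LocGen.sec s U = v l • lp e N) :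
    ∃ d : Dat R c φY, d.V.1 = π ⁻¹ᵁ U := by
  have : IsAffineHom π := hR.1
  have hV : IsAffineOpen (π ⁻¹ᵁ U) := hU.preimage π
  let V : Y.affineOpens := ⟨π ⁻¹ᵁ U, hV⟩
  let t : Γ(Y, V.1) := R.t ⟨U, hU⟩ e (isGen_of_isGen he)
  let y : Fin n → Γ(Y, V.1) := Function.update (fun j => (π.app U).hom (v j)) l t
  have hv' : IsCoord (π ≫ f) V.1 y := coord_root R hR hU he hv l hg
  have ht : t ^ N = (π.app U).hom (v l) := R.pow_eq ⟨U, hU⟩ e (isGen_of_isGen he) (v l) hg
  have hyl : y l = t := Function.update_self _ _ _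
  have hb := (isCoord922 (V := V) hv').isLocBasis (K922.Univ.affUniv hdY)
  have hb0 := (isCoord922 (V := ⟨U, hU⟩) hv).isLocBasis (K922.Univ.affUniv hdX)
  have hgen := isGen_top φY hφY (U := V) hb
  have hself : resO Y (le_refl V.1) t = t := resO_self _ _
  have hreg := (isCoord922 (V := V) hv').isReg l
  refine ⟨{ U := ⟨U, hU⟩, V := V, hV := le_rfl, e := e, he := isGen_of_isGen he,
            he' := K892.Frames.gen_iff.mpr he, w := fun j => dS dX U (v j), hw := hb0,
            m := (N : Γ(Y, V.1)) • (φY V).symm (exteriorPower.ιMulti Γ(Y, V.1) n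
              (fun j => dS dY V.1 (y j))),
            hm := isGen_smul hgen (isUnit_natCast (π ≫ f) hNk _), reg := ?_, rel := ?_ }, rfl⟩
  · intro W hW a ha
    refine hreg W hW a ?_
    rw [hyl]
    exact ha
  · change (resO Y (le_refl V.1) t) ^ (N - 1) • (N : Γ(Y, V.1)) • (φY V).symm (exteriorPower.ιMulti Γ(Y, V.1) n
              (fun j => dS dY V.1 (y j))) = _
    rw [hself, smul_smul]
    have h1 : (fun i => appS c V.1 (psec π ΩX (le_refl V.1) (dS dX U (v i)))) =
        Function.update (fun j => dS dY V.1 (y j)) l ((t ^ (N - 1) * (N : Γ(Y, V.1))) • dS dY V.1 (y l)) := by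
      funext i
      have h2 : appS c V.1 (psec π ΩX (le_refl V.1) (dS dX U (v i))) = dS dY V.1 ((π.app U).hom (v i)) := by
        rw [← pl_self π le_rfl]
        exact appS_psec_dS hc le_rfl (v i)
      rw [h2]
      by_cases hi : i = l
      · subst hi
        rw [Function.update_self, ← ht, hyl]
        obtain ⟨m, rfl⟩ := Nat.exists_eq_succ_of_ne_zero hN.ne'
        rw [Nat.succ_eq_add_one, dS_pow, Nat.add_sub_cancel, mul_comm]
      · rw [Function.update_of_ne hi]
        have h3 : y i = (π.app U).hom (v i) := Function.update_of_ne hi _ _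
        rw [h3]
    rw [h1, AlternatingMap.map_update_smul, Function.update_eq_self, map_smul]

/-- **Local data exist** for a simple cyclic cover branched along a smooth divisor. -/
theorem exists_dat [Smooth f] [IsIntegral X] {D : Fin 1 → X.IdealSheafData}
    (hφY : PhiComp φY) (hdX : OmegaSh.IsUniversal dX) (hdY : OmegaSh.IsUniversal dY)
    (hc : OmegaSh.IsDiffCompat π dX dY c) (hL : PicF.IsInvertible L) (hD : LogNCD.IsNCD D f)
    (hs : CycCov.IsZeroDiv (CohB1.tensorPow L N) s (CycCov.divIdeal D (fun _ => 1)))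
    (R : CycCov.Root L N s π) (hR : CycCov.IsSimple R) (hN : 0 < N) (hNk : (N : k) ≠ 0)
    (hn : ∀ (U : X.affineOpens) (m : ℕ) (v : Fin m → Γ(X, U.1)), (U.1 : Set X).Nonempty →
      IsCoord f U.1 v → m = n) (y : Y) :
    ∃ d : Dat R c φY, y ∈ d.V.1 := by
  obtain ⟨d, hxd, -, hnorm⟩ := exists_locData_normalized f hL hD hs (O := ⊤) (x := π y) trivial
  obtain rfl := hn d.U d.n d.c.v ⟨_, hxd⟩ d.coord
  have hf' : ∀ d' : LocData f D (fun _ => 1) s, d'.u * ∏ j, d'.c.g j ^ 1 = d'.u * d'.c.g 0 := by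
    intro d'
    rw [Finset.univ_unique, Finset.prod_singleton, pow_one]
    rfl
  rcases hj : d.c.e 0 with _ | l
  · have hs' := d.hs
    rw [hf' d, d.c.g_none 0 hj, mul_one] at hs'
    obtain ⟨q, hq⟩ := exists_dat_unit hφY hdX hdY hc R hR hN hNk d.U.2 d.he hs' d.hu d.coord
    exact ⟨q, by rw [hq]; exact hxd⟩
  · have hx0 : π y ∈ (D 0).support := by
      by_contra h
      rw [hnorm 0 h] at hj
      cases hj
    have hcx : π y ∉ X.basicOpen (d.c.v l) := by
      rw [← d.c.g_some 0 l hj]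
      rw [← K922.Chart.mem_support_iff_span (D 0) d.U (d.c.g 0) _ (π y) hxd]
      · exact hx0
      · have := d.c.ideal 0 d.U le_rfl
        rwa [Groth.Agent.Sga67.Sec.resO_self] at this
    obtain ⟨W, hWd, hxW, hδ⟩ := d.exists_delta hxd (e := 1) (by rw [Nat.cast_one]; exact one_ne_zero) 1 hcx
    set d' := d.restrict W hWd with hd'
    letI := algk f d'.U.1
    have h1 : IsEtaleCoord k (Function.update d'.c.v l (d'.u * d'.c.v l)) := by
      apply K926.Coord.coord_scale d'.isEtaleCoord l d'.u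
      have h2 : d'.delta l 1 1 = d'.u + d'.c.v l * (d'.isEtaleCoord).pd l d'.u := by
        unfold LocData.delta
        rw [Nat.cast_one, one_mul, one_mul]
        rfl
      rwa [h2] at hδ
    have hs' := d'.hs
    have hj' : d'.c.e 0 = some l := hj
    rw [hf' d', d'.c.g_some 0 l hj'] at hs'
    have h3 : Function.update d'.c.v l (d'.u * d'.c.v l) l = d'.u * d'.c.v l := Function.update_self _ _ _
    obtain ⟨q, hq⟩ := exists_dat_root hφY hdX hdY hc R hR hN hNk d'.U.2 d'.he (v := Function.update d'.c.v l (d'.u * d'.c.v l))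
      h1 l (hs'.trans (congrArg (fun z => z • lp d'.e N) h3.symm))
    exact ⟨q, by rw [hq]; exact hxW⟩

end K419.CanDiff
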