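import Groth.Agent.CycCov.K419.Hurwitz
import Groth.Agent.LogNCD.K922.Univ

/-!
# Local data for the Hurwitz formula of a simple cyclic cover branched along a smooth divisor
-/

set_option autoImplicit false
universe u

open CategoryTheory CategoryTheory.Limits AlgebraicGeometry Opposite TopologicalSpace
open Groth.Agent.Fdesc.LocGen

namespace K419.CanLoc

open K926.Str K926.Base K926.Frame K926.Cov K926.Branch K926.Loc
open Groth.Agent.CurvesC.NodeEt

variable {k : Type u} [Field k] {X Y : Scheme.{u}}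
variable {L : X.Modules} {N : ℕ} {s : Coh.structureModule X ⟶ CohB1.tensorPow L N} {π : Y ⟶ X}
  {f : X ⟶ Spec (CommRingCat.of k)}

/-- The chart of the simple cover. -/
theorem bijective_chart (R : CycCov.Root L N s π) (hR : CycCov.IsSimple R) {U : X.Opens} (hU : IsAffineOpen U)
    {e : Γ(L, U)} (he : IsGen e) {g : Γ(X, U)} (hg : sec s U = g • lp e N) :
    letI := K926.CovSch.alg π U
    ∃ ht : (R.t ⟨U, hU⟩ e (isGen_of_isGen he)) ^ N = algebraMap Γ(X, U) Γ(Y, π ⁻¹ᵁ U) g,
      Function.Bijective (toC₁ g N (R.t ⟨U, hU⟩ e (isGen_of_isGen he)) ht) := by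
  letI := K926.CovSch.alg π U
  exact ⟨R.pow_eq ⟨U, hU⟩ e (isGen_of_isGen he) g hg, hR.2 ⟨U, hU⟩ e (isGen_of_isGen he) g hg⟩

/-- Unramified case. -/
theorem coord_unit (R : CycCov.Root L N s π) (hR : CycCov.IsSimple R) (hN : 0 < N) (hNk : (N : k) ≠ 0)
    {U : X.Opens} (hU : IsAffineOpen U)
    {e : Γ(L, U)} (he : IsGen e) {g : Γ(X, U)} (hg : sec s U = g • lp e N) (hgu : IsUnit g)
    {n : ℕ} {v : Fin n → Γ(X, U)} (hv : IsCoord f U v) :
    IsCoord (π ≫ f) (π ⁻¹ᵁ U) (fun j => (π.app U).hom (v j)) := by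
  letI := K926.CovSch.alg π U
  obtain ⟨ht, hbij⟩ := bijective_chart R hR hU he hg
  have h1 := Groth.Agent.Pi1.H390.T1KumRing.etale_of hN.ne' g hgu (isUnit_natCast f hNk _)
  have h2 := etale_comp h1 (RingHom.Etale.of_bijective hbij)
  have h3 : (toC₁ g N _ ht).comp (AdjoinRoot.of (Groth.Agent.Pi1.H390.T1KumRing.pol N g)) =
      (π.app U).hom := by
    ext b
    exact toC₁_of g N _ ht b
  rw [h3] at h2
  have h4 := etale_comp hv h2
  unfold IsCoord
  convert h4 using 1
  apply MvPolynomial.ringHom_ext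
  · intro a
    simp only [MvPolynomial.eval₂Hom_C, RingHom.comp_apply]
    have h2 := str_comp π f U (π ⁻¹ᵁ U) le_rfl
    rw [← Scheme.Hom.app_eq_appLE] at h2
    exact (congr($h2 a)).symm
  · intro j
    simp

/-- Ramified case. -/
theorem coord_root (R : CycCov.Root L N s π) (hR : CycCov.IsSimple R)
    {U : X.Opens} (hU : IsAffineOpen U)
    {e : Γ(L, U)} (he : IsGen e) {n : ℕ} {v : Fin n → Γ(X, U)} (hv : IsCoord f U v) (c : Fin n)
    (hg : sec s U = v c • lp e N) :
    IsCoord (π ≫ f) (π ⁻¹ᵁ U) (Function.update (fun j => (π.app U).hom (v j)) c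
      (R.t ⟨U, hU⟩ e (isGen_of_isGen he))) := by
  letI := K926.CovSch.alg π U
  letI := algk f U
  letI := algk (π ≫ f) (π ⁻¹ᵁ U)
  have : IsScalarTower k Γ(X, U) Γ(Y, π ⁻¹ᵁ U) := IsScalarTower.of_algebraMap_eq fun a => by
    have h2 := str_comp π f U (π ⁻¹ᵁ U) le_rfl
    rw [← Scheme.Hom.app_eq_appLE] at h2
    exact (congr($h2 a)).symm
  obtain ⟨ht, hbij⟩ := bijective_chart R hR hU he hg
  have hx : IsEtaleCoord k v := hv
  have h1 := K926.Coord.coord_root hx c N
  let φ : YRing (v c) N →ₐ[k] Γ(Y, π ⁻¹ᵁ U) := ⟨toC₁ (v c) N _ ht, by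
    intro r
    rw [IsScalarTower.algebraMap_apply k Γ(X, U) (YRing (v c) N)]
    change toC₁ (v c) N _ ht (AdjoinRoot.of _ (algebraMap k Γ(X, U) r)) = _
    rw [toC₁_of, ← IsScalarTower.algebraMap_apply]⟩
  have h2 := h1.comp φ (RingHom.Etale.of_bijective hbij)
  have h3 : IsEtaleCoord k (Function.update (fun j => (π.app U).hom (v j)) c
      (R.t ⟨U, hU⟩ e (isGen_of_isGen he))) := by
    convert h2 using 1
    funext i
    by_cases hi : i = c
    · subst hi
      rw [Function.update_self, Function.update_self]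
      exact (toC₁_root _ _ _ ht).symm
    · rw [Function.update_of_ne hi, Function.update_of_ne hi]
      change _ = toC₁ (v c) N _ ht (AdjoinRoot.of _ (v i))
      rw [toC₁_of]
      rfl
  exact h3

end K419.CanLoc
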