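import Groth.Agent.ProjDual.K271.Bott
import Groth.Agent.S10960
import Groth.Agent.Surf.K455.Canon
import Groth.Agent.Sga5.ProjSmooth
import Groth.Agent.IntTh.K711.TwistCls

/-!
# The canonical module of projective space over a field
-/

set_option autoImplicit false
universe u
open CategoryTheory CategoryTheory.Limits AlgebraicGeometry TopologicalSpace

namespace K419.PnCan

open Groth.Agent Groth.Agent.Fga.PicMon

variable (k : Type u) [Field k] (n : ℕ)

/-- Dimension of `H^q(P^n, O(t))` via the zeroth exterior power. -/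
theorem finrank_zero (hn : 1 ≤ n) (t : ℤ) :
    Module.finrank k (Coh.HH (CohB1.ProjSpace n k) (Twist.twistProjSpace n k t) 0) =
      if 0 < t then Nat.choose (t.toNat + n) t.toNat else if t < 0 then 0 else 1 := by
  have h1 := Dual.H339.OmegaRank.isFinLocFreeOfRank_omega n (CohB1.ProjSpace.toSpec n k)
  have h2 : Coh.IsQCoh (Omega.sheaf (CohB1.ProjSpace.toSpec n k)) :=
    Ega2.QCohLocal.isQCoh_of_isFinLocFree (Ega2.QCohLocal.isFinLocFree_of_rank h1)
  obtain ⟨L₀, hL₀⟩ := Dual.H366.ExtQCoh.exists_isExtPow 0 h2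
  obtain ⟨e⟩ := K54.HodgePn.nonempty_tA_extPow_zero hL₀ t
  have h3 := K271.Bott.finrank_eq k n (p := 0) (q := 0) (Nat.zero_le _) (Nat.zero_le _) hL₀ t
  rw [K271.Bott.finrank_congr k n (K271.Bott.swapIso k n L₀ t) 0, ← K271.Bott.finrank_congr k n e 0] at h3
  rw [h3]
  have h4 : (0 : ℕ) ≠ n := by omega
  simp [h4]

theorem nonempty_iso (hn : 1 ≤ n) {ω : (CohB1.ProjSpace n k).Modules}
    (hω : ExtPow.IsExtPow n (Omega.sheaf (CohB1.ProjSpace.toSpec n k)) ω) :
    Nonempty (ω ≅ Twist.twistProjSpace n k (-(n : ℤ) - 1)) := by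
  have hinv := K455.Canon.isInvertible (CohB1.ProjSpace.toSpec n k) n hω
  obtain ⟨m, ⟨e⟩, -⟩ := S10960.result k n hn ω hinv
  have key : ∀ d : ℤ, Module.finrank k (Coh.HH (CohB1.ProjSpace n k) (Twist.twistProjSpace n k (m + d)) 0) =
      Module.finrank k (Coh.HH (CohB1.ProjSpace n k) (CohB1.tensorMod ω (Twist.twistProjSpace n k d)) 0) := by
    intro d
    have h1 : mc (Twist.twistProjSpace n k (m + d)) = mc (CohB1.tensorMod ω (Twist.twistProjSpace n k d)) := by
      rw [mc_tensor, mc_eq e, K711.TwistCls.mc_mul]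
    obtain ⟨e'⟩ := (mc_eq_iff _ _).mp h1
    exact K271.Bott.finrank_congr k n e' 0
  have h1 := key (n + 1)
  rw [finrank_zero k n hn, K271.Bott.finrank_eq k n (p := n) (q := 0) le_rfl (Nat.zero_le _) hω] at h1
  have h2 := key n
  rw [finrank_zero k n hn, K271.Bott.finrank_eq k n (p := n) (q := 0) le_rfl (Nat.zero_le _) hω] at h2
  have hn0 : (0 : ℤ) < n := by exact_mod_cast hn
  rw [if_pos (by omega : (0 : ℤ) < n + 1), if_pos rfl] at h1
  rw [if_pos hn0, if_pos rfl] at h2
  have h3 : Nat.choose (((n : ℤ).toNat) - 1) n = 0 := by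
    rw [Int.toNat_natCast]
    exact Nat.choose_eq_zero_of_lt (by omega)
  have h4 : ((n : ℤ) + 1).toNat = n + 1 := by omega
  rw [h3, mul_zero] at h2
  rw [h4, show n + 1 + n - n = n + 1 by omega, Nat.choose_self, one_mul, Nat.add_sub_cancel,
    Nat.choose_self] at h1
  have h5 : ¬ (m + ((n : ℤ) + 1) < 0) := by
    intro h
    rw [if_neg (by omega), if_pos h] at h1
    exact zero_ne_one h1
  have h6 : m + (n : ℤ) < 0 := by
    by_contra h
    rcases lt_or_eq_of_le (not_lt.mp h) with h7 | h7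
    · rw [if_pos h7] at h2
      exact (Nat.choose_pos (by omega)).ne' h2
    · rw [if_neg (by omega), if_neg h] at h2
      exact one_ne_zero h2
  have h7 : m = -(n : ℤ) - 1 := by omega
  rw [← h7]
  exact ⟨e⟩

end K419.PnCan
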