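import Groth.Agent.CycCov.K419.CanDiff
import Groth.Agent.CycCov.K419.PnCan
import Groth.Agent.VBPn.K698.Basic
import Groth.Agent.Variety.K420.IntPush
import Groth.Agent.Lefpen.H717.ProjIrr
import Groth.Agent.Nrm16.K136.UnivOmega

/-!
# The canonical module of a simple cyclic cover branched along a smooth divisor
-/

set_option autoImplicit false
universe u
open CategoryTheory CategoryTheory.Limits AlgebraicGeometry Opposite TopologicalSpace
open Groth.Agent.Sga67.Sec Groth.Agent.Sga67.LocBasis Groth.Agent.Sga67.ExtSheaf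

namespace K419.CanMain

open Groth.Agent Groth.Agent.Fga.PicMon

variable {k : Type u} [Field k] {X Y : Scheme.{u}}

/-- The number of étale coordinates is the relative dimension. -/
theorem eq_of_isCoord (f : X ⟶ Spec (CommRingCat.of k)) [QuasiSeparated f] (n : ℕ)
    [SmoothOfRelativeDimension n f] (U : X.affineOpens) (m : ℕ) (v : Fin m → Γ(X, U.1))
    (hU : (U.1 : Set X).Nonempty) (hv : K926.Str.IsCoord f U.1 v) : m = n := by
  obtain ⟨x, hx⟩ := hU
  have h1 := Dual.H339.OmegaRank.isFinLocFreeOfRank_omega n f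
  have hb := (K926.Loc.isCoord922 (V := U) hv).isLocBasis
    (K922.Univ.affUniv (K136.UnivOmega.isUniversal_dOmega f))
  obtain ⟨V, hVU, hxV, b, hb'⟩ := K698.Basic.exists_basis h1 hx
  have : Nonempty V := ⟨⟨x, hxV⟩⟩
  have : Nontrivial Γ(X, V) := inferInstance
  have h2 := Module.finrank_eq_card_basis (hb.basis hVU)
  have h3 := Module.finrank_eq_card_basis (hb'.basis (le_refl V))
  rw [Fintype.card_fin] at h2 h3
  exact h2.symm.trans h3

/-- **Hurwitz formula** for a simple cyclic cover branched along a smooth divisor. -/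
theorem nonempty_iso (f : X ⟶ Spec (CommRingCat.of k)) [IsIntegral X] [QuasiSeparated f] (n : ℕ)
    [SmoothOfRelativeDimension n f] {L : X.Modules} (hL : PicF.IsInvertible L) {N : ℕ} (hN : 0 < N)
    (hNk : (N : k) ≠ 0) {D : Fin 1 → X.IdealSheafData} (hD : LogNCD.IsNCD D f)
    {s : Coh.structureModule X ⟶ CohB1.tensorPow L N}
    (hs : CycCov.IsZeroDiv (CohB1.tensorPow L N) s (CycCov.divIdeal D (fun _ => 1)))
    (π : Y ⟶ X) (R : CycCov.Root L N s π) (hR : CycCov.IsSimple R) [QuasiSeparated (π ≫ f)]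
    {ωX : X.Modules} (hωX : ExtPow.IsExtPow n (Omega.sheaf f) ωX)
    {ωY : Y.Modules} (hωY : ExtPow.IsExtPow n (Omega.sheaf (π ≫ f)) ωY) :
    Nonempty (ωY ≅ CohB1.tensorMod ((Scheme.Modules.pullback π).obj ωX)
      (CohB1.tensorPow ((Scheme.Modules.pullback π).obj L) (N - 1))) := by
  have hsm : Smooth f := SmoothOfRelativeDimension.smooth n f
  have h1 := K136.UnivOmega.isUniversal_dOmega f
  have h2 := K136.UnivOmega.isUniversal_dOmega (π ≫ f)
  have w : (π ≫ f) ≫ 𝟙 _ = π ≫ f := Category.comp_id _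
  have hc := K583.DerFunct.isDiffCompat_diffMap w h1 (OmegaSh.dOmega (π ≫ f))
  obtain ⟨φX, hφX⟩ := exists_phi hωX
  obtain ⟨φY, hφY⟩ := exists_phi hωY
  exact Hurwitz.nonempty_iso (R := R) hφX hφY fun y =>
    CanDiff.exists_dat hφY h1 h2 hc hL hD hs R hR hN hNk (eq_of_isCoord f n) y

end K419.CanMain
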