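import Groth.Agent.CycCov.K419.CanMain

/-!
# The canonical module of a simple cyclic cover of projective space
-/

set_option autoImplicit false
universe u
open CategoryTheory CategoryTheory.Limits AlgebraicGeometry Opposite TopologicalSpace

namespace K419.CanPn

open Groth.Agent Groth.Agent.Fga.PicMon

variable {k : Type u} [Field k] {n : ℕ} {Y : Scheme.{u}}

theorem mc_pull_mul (π : Y ⟶ CohB1.ProjSpace n k) (a b : ℤ) :
    mc ((Scheme.Modules.pullback π).obj (Twist.twistProjSpace n k a)) *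
      mc ((Scheme.Modules.pullback π).obj (Twist.twistProjSpace n k b)) =
    mc ((Scheme.Modules.pullback π).obj (Twist.twistProjSpace n k (a + b))) := by
  rw [← K420.IntPush.mc_pullback_tensor π (K711.TwistCls.isInvertible_twist n k a)
    (K711.TwistCls.isInvertible_twist n k b)]
  obtain ⟨e⟩ := (mc_eq_iff _ _).mp ((mc_tensor _ _).trans (K711.TwistCls.mc_mul n k a b))
  exact mc_eq ((Scheme.Modules.pullback π).mapIso e)

theorem mc_pull_zero (π : Y ⟶ CohB1.ProjSpace n k) :
    mc ((Scheme.Modules.pullback π).obj (Twist.twistProjSpace n k 0)) = 1 := by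
  obtain ⟨e⟩ := (mc_eq_iff _ _).mp ((K711.TwistCls.mc_zero n k).trans mc_one.symm)
  rw [mc_eq ((Scheme.Modules.pullback π).mapIso e), K420.IntPush.mc_pullback_unit]

theorem mc_pull_pow (π : Y ⟶ CohB1.ProjSpace n k) (a : ℤ) (m : ℕ) :
    mc ((Scheme.Modules.pullback π).obj (Twist.twistProjSpace n k a)) ^ m =
    mc ((Scheme.Modules.pullback π).obj (Twist.twistProjSpace n k (m * a))) := by
  induction m with
  | zero => rw [pow_zero, Nat.cast_zero, zero_mul, mc_pull_zero]
  | succ m ih => rw [pow_succ, ih, mc_pull_mul]; congr 3; push_cast; ring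

theorem nonempty_iso (hn : 1 ≤ n) (r d : ℕ) (hr : 0 < r) (hrk : (r : k) ≠ 0)
    (D : Fin 1 → (CohB1.ProjSpace n k).IdealSheafData) (hD : LogNCD.IsNCD D (CohB1.ProjSpace.toSpec n k))
    (s : Coh.structureModule (CohB1.ProjSpace n k) ⟶ CohB1.tensorPow (Twist.twistProjSpace n k d) r)
    (hs : CycCov.IsZeroDiv (CohB1.tensorPow (Twist.twistProjSpace n k d) r) s (CycCov.divIdeal D (fun _ => 1)))
    (π : Y ⟶ CohB1.ProjSpace n k) (R : CycCov.Root (Twist.twistProjSpace n k d) r s π) (hR : CycCov.IsSimple R)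
    [QuasiSeparated (π ≫ CohB1.ProjSpace.toSpec n k)]
    (ω : Y.Modules) (hω : ExtPow.IsExtPow n (Omega.sheaf (π ≫ CohB1.ProjSpace.toSpec n k)) ω) :
    Nonempty (ω ≅ (Scheme.Modules.pullback π).obj (Twist.twistProjSpace n k (((r : ℤ) - 1) * d - n - 1))) := by
  obtain ⟨ωX, hωX, -⟩ := K455.Canon.exists_canonical (CohB1.ProjSpace.toSpec n k) n
  obtain ⟨e₀⟩ := PnCan.nonempty_iso k n hn hωX
  obtain ⟨e⟩ := CanMain.nonempty_iso (CohB1.ProjSpace.toSpec n k) n (K711.TwistCls.isInvertible_twist n k d)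
    hr hrk hD hs π R hR hωX hω
  rw [← mc_eq_iff, mc_eq e, mc_tensor, mc_tensorPow, mc_eq ((Scheme.Modules.pullback π).mapIso e₀),
    mc_pull_pow, mc_pull_mul]
  congr 3
  rw [Nat.cast_sub hr]
  push_cast
  ring

end K419.CanPn
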