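import Groth.Agent.ExtPow.K875.DetTensor
import Groth.Agent.Krr.H490.LocBasisPull
import Groth.Agent.OmegaSh.K583.BaseChange
import Groth.Agent.CycCov.K926.LocZ

/-!
# Hurwitz formula for cyclic covers, from local data

`hurwitz`: `ω_Y ≅ π^* ω_X ⊗ (π^* L)^{⊗ (N - 1)}` when locally `t^(N-1) • m = π^*(w_1 ∧ … ∧ w_n)` for
generators `m` of `ω_Y` and local bases `w` of `Ω_X`.
-/

set_option autoImplicit false

universe u

open CategoryTheory CategoryTheory.Limits AlgebraicGeometry Opposite TopologicalSpace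
open scoped TensorProduct
open Groth.Agent.Sga67.Sec Groth.Agent.Sga67.LocBasis Groth.Agent.Sga67.ExtSheaf
open Groth.Agent.Sga67.TensorOps K875.PowSec K875.DetTensor
open Groth.Agent.Krr.H490.LocBasisPull

namespace K419.Hurwitz

section Alg

theorem alt_matrix {R M N : Type*} [CommRing R] [AddCommGroup M] [Module R M]
    [AddCommGroup N] [Module R N] {n : ℕ} (g : M [⋀^Fin n]→ₗ[R] N) (G : Matrix (Fin n) (Fin n) R)
    (v : Fin n → M) : g (fun i => ∑ j, G i j • v j) = G.det • g v := by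
  have h := alt_eq_det_smul (Pi.basisFun R (Fin n)) (g.compLinearMap (Fintype.linearCombination R v)) G
  rw [Pi.basisFun_det] at h
  have h1 : (fun i => Fintype.linearCombination R v (G i)) = fun i => ∑ j, G i j • v j := by
    funext i
    rw [Fintype.linearCombination_apply]
  have h2 : (fun i => Fintype.linearCombination R v ((Pi.basisFun R (Fin n)) i)) = v := by
    funext i
    rw [Pi.basisFun_apply, Fintype.linearCombination_apply_single, one_smul]
  change g (fun i => Fintype.linearCombination R v (G i)) =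
    G.det • g (fun i => Fintype.linearCombination R v ((Pi.basisFun R (Fin n)) i)) at h
  rwa [h1, h2] at h

end Alg

variable {X Y : Scheme.{u}}

theorem psec_smul (g : Y ⟶ X) (M : X.Modules) {U : X.Opens} {V : Y.Opens} (h : V ≤ g ⁻¹ᵁ U)
    (r : Γ(X, U)) (s : Sec M U) : psec g M h (r • s) = (g.appLE U V h r) • psec g M h s :=
  Groth.Agent.VarietyB.PullSec.sec_smul g M h r s

theorem psec_add (g : Y ⟶ X) (M : X.Modules) {U : X.Opens} {V : Y.Opens} (h : V ≤ g ⁻¹ᵁ U)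
    (s t : Sec M U) : psec g M h (s + t) = psec g M h s + psec g M h t :=
  map_add (Groth.Agent.VarietyB.PullSec.sec g M h) s t

theorem psec_sum (g : Y ⟶ X) (M : X.Modules) {U : X.Opens} {V : Y.Opens} (h : V ≤ g ⁻¹ᵁ U)
    {ι : Type*} (S : Finset ι) (s : ι → Sec M U) : psec g M h (∑ i ∈ S, s i) = ∑ i ∈ S, psec g M h (s i) :=
  map_sum (Groth.Agent.VarietyB.PullSec.sec g M h) s S

theorem res_psec (g : Y ⟶ X) (M : X.Modules) {U : X.Opens} {V : Y.Opens} (h : V ≤ g ⁻¹ᵁ U)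
    {U' : X.Opens} {V' : Y.Opens} (h' : V' ≤ g ⁻¹ᵁ U') (i : U' ≤ U) (i' : V' ≤ V) (s : Sec M U) :
    res _ i' (psec g M h s) = psec g M h' (res M i s) :=
  Groth.Agent.VarietyB.PullSec.sec_res g M h h' i i' s

/-- `π♯` followed by restriction. -/
noncomputable def pl (g : Y ⟶ X) {U : X.Opens} {V : Y.Opens} (h : V ≤ g ⁻¹ᵁ U) : Γ(X, U) →+* Γ(Y, V) :=
  (g.appLE U V h).hom

theorem resO_app (g : Y ⟶ X) {U : X.Opens} {V : Y.Opens} (h : V ≤ g ⁻¹ᵁ U) (a : Γ(X, U)) :
    resO Y h ((g.app U).hom a) = pl g h a := by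
  rfl

variable {L : X.Modules} {N : ℕ} {s : Coh.structureModule X ⟶ CohB1.tensorPow L N} {π : Y ⟶ X}

theorem cycGen {L : X.Modules} {U : X.Opens} {e : Sec L U} (he : IsGen e) : CycCov.IsGen L U e := by
  have h : (fun b : Γ(X, U) => b • e) = he.equiv := by
    funext b
    rw [he.equiv_apply]
  unfold CycCov.IsGen
  rw [h]
  exact he.equiv.bijective

theorem phi_symm_alt {n : ℕ} {E L : X.Modules} (φ : Phi n E L) (V : X.affineOpens)
    (G : Matrix (Fin n) (Fin n) Γ(X, V.1)) (v : Fin n → Sec E V.1) :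
    (φ V).symm (exteriorPower.ιMulti Γ(X, V.1) n (fun i => ∑ j, G i j • v j)) =
      G.det • (φ V).symm (exteriorPower.ιMulti Γ(X, V.1) n v) := by
  have e2 := alt_matrix (exteriorPower.ιMulti Γ(X, V.1) n) G v
  rw [e2, map_smul]

/-- The section `π^* x ⊗ (π^* e)^k`. -/
noncomputable def pmk (π : Y ⟶ X) (ω L : X.Modules) {U : X.Opens} {V : Y.Opens} (h : V ≤ π ⁻¹ᵁ U) (k : ℕ)
    (e : Sec L U) (x : Sec ω U) :
    Sec (CohB1.tensorMod ((Scheme.Modules.pullback π).obj ω)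
      (CohB1.tensorPow ((Scheme.Modules.pullback π).obj L) k)) V :=
  mulR _ _ (powSec (psec π L h e) k) (psec π ω h x)

theorem res_pmk (π : Y ⟶ X) (ω L : X.Modules) {U U' : X.Opens} {V V' : Y.Opens} (h : V ≤ π ⁻¹ᵁ U)
    (h' : V' ≤ π ⁻¹ᵁ U') (i : U' ≤ U) (i' : V' ≤ V) (k : ℕ)
    (e : Sec L U) (x : Sec ω U) :
    res _ i' (pmk π ω L h k e x) = pmk π ω L h' k (res L i e) (res ω i x) := by
  unfold pmk
  rw [res_mulR, res_powSec, res_psec π L h h' i i', res_psec π ω h h' i i']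

theorem pmk_smul (π : Y ⟶ X) (ω L : X.Modules) {U : X.Opens} {V : Y.Opens} (h : V ≤ π ⁻¹ᵁ U)
    (k : ℕ) (q g : Γ(X, U)) (e : Sec L U) (x : Sec ω U) :
    pmk π ω L h k (q • e) (g • x) = (pl π h g * pl π h q ^ k) • pmk π ω L h k e x := by
  unfold pmk
  rw [psec_smul, psec_smul, map_smul, powSec_smul]
  have h1 := mulR_smul ((Scheme.Modules.pullback π).obj ω)
    (CohB1.tensorPow ((Scheme.Modules.pullback π).obj L) k) ((π.appLE U V h) q ^ k) (powSec (psec π L h e) k)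
    (psec π ω h x)
  refine (congrArg (fun z => (π.appLE U V h) g • z) h1).trans ?_
  exact (mul_smul _ _ _).symm

/-- The data of a local frame for the Hurwitz formula. -/
structure Dat (R : CycCov.Root L N s π) {ΩX : X.Modules} {ΩY : Y.Modules}
    (c : (Scheme.Modules.pullback π).obj ΩX ⟶ ΩY) {n : ℕ} {ωY : Y.Modules} (φY : Phi n ΩY ωY) where
  U : X.affineOpens
  V : Y.affineOpens
  hV : V.1 ≤ π ⁻¹ᵁ U.1
  e : Sec L U.1
  he : CycCov.IsGen L U.1 e
  he' : IsGen e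
  w : Fin n → Sec ΩX U.1
  hw : IsLocBasis w
  m : Sec ωY V.1
  hm : IsGen m
  reg : ∀ (W : Y.Opens) (h : W ≤ V.1) (a : Γ(Y, W)), resO Y (h.trans hV) (R.t U e he) * a = 0 → a = 0
  rel : (resO Y hV (R.t U e he)) ^ (N - 1) • m =
    (φY V).symm (exteriorPower.ιMulti _ n (fun i => appS c V.1 (psec π ΩX hV (w i))))

variable {R : CycCov.Root L N s π} {ΩX : X.Modules} {ΩY : Y.Modules}
  {c : (Scheme.Modules.pullback π).obj ΩX ⟶ ΩY} {n : ℕ} {ωY : Y.Modules} {φY : Phi n ΩY ωY}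

/-- Restriction of the data on the cover. -/
noncomputable def Dat.restrict (hφY : PhiComp φY) (d : Dat R c φY) (V' : Y.affineOpens) (h : V'.1 ≤ d.V.1) :
    Dat R c φY where
  U := d.U
  V := V'
  hV := h.trans d.hV
  e := d.e
  he := d.he
  he' := d.he'
  w := d.w
  hw := d.hw
  m := res ωY h d.m
  hm := d.hm.restrict h
  reg W hW a ha := d.reg W (hW.trans h) a ha
  rel := by
    have h1 := congrArg (res ωY h) d.rel
    rw [res_smul, map_pow, resO_resO] at h1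
    refine h1.trans ?_
    have h2 := hφY d.V V' h (fun i => appS c d.V.1 (psec π ΩX d.hV (d.w i)))
    refine h2.trans ?_
    congr 2
    funext i
    refine (appS_res c h _).symm.trans ?_
    rw [res_psec π ΩX d.hV (h.trans d.hV) le_rfl h, res_self]

/-- The generator of `π^* ω_X ⊗ (π^* L)^{N-1}`. -/
noncomputable def Dat.n' {ωX : X.Modules} (φX : Phi n ΩX ωX) (d : Dat R c φY) :
    Sec (CohB1.tensorMod ((Scheme.Modules.pullback π).obj ωX)
      (CohB1.tensorPow ((Scheme.Modules.pullback π).obj L) (N - 1))) d.V.1 :=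
  pmk π ωX L d.hV (N - 1) d.e ((φX d.U).symm (exteriorPower.ιMulti _ n d.w))

theorem Dat.isGen_n' {ωX : X.Modules} {φX : Phi n ΩX ωX} (hφX : PhiComp φX) (d : Dat R c φY) :
    IsGen (d.n' φX) := by
  have h1 : IsGen ((φX d.U).symm (exteriorPower.ιMulti Γ(X, d.U.1) n d.w)) := isGen_top φX hφX d.hw
  have h2 : IsGen (psec π ωX d.hV ((φX d.U).symm (exteriorPower.ιMulti Γ(X, d.U.1) n d.w))) :=
    isLocBasis_psec π ωX d.hV h1
  have h3 : IsGen (psec π L d.hV d.e) := isLocBasis_psec π L d.hV d.he'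
  exact h2.tensor (h3.powSec (N - 1))

/-- The two transition functions agree. -/
theorem Dat.transition {ωX : X.Modules} {φX : Phi n ΩX ωX} (hφX : PhiComp φX) (hφY : PhiComp φY)
    (d d' : Dat R c φY) (h : d'.V.1 ≤ d.V.1) :
    ∃ a : Γ(Y, d'.V.1), res ωY h d.m = a • d'.m ∧ res _ h (d.n' φX) = a • d'.n' φX := by
  obtain ⟨a, ha⟩ := d'.hm.exists_smul (res ωY h d.m)
  obtain ⟨b, hb⟩ := (d'.isGen_n' hφX).exists_smul (res _ h (d.n' φX))
  refine ⟨a, ha, ?_⟩
  rw [hb]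
  congr 1
  apply eqO_of_locally
  intro y hy
  obtain ⟨U₂, hU₂, hyU₂⟩ := K922.Quot.exists_affine_nhd (X := X) (U := d.U.1 ⊓ d'.U.1) (x := π y)
    ⟨d.hV (h hy), d'.hV hy⟩
  obtain ⟨V₂, hV₂, hyV₂⟩ := K922.Quot.exists_affine_nhd (X := Y) (U := d'.V.1 ⊓ π ⁻¹ᵁ U₂.1) (x := y)
    ⟨hy, hyU₂⟩
  have u1 : U₂.1 ≤ d.U.1 := hU₂.trans inf_le_left
  have u2 : U₂.1 ≤ d'.U.1 := hU₂.trans inf_le_right
  have v2 : V₂.1 ≤ d'.V.1 := hV₂.trans inf_le_left
  have v1 : V₂.1 ≤ d.V.1 := v2.trans h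
  have p2 : V₂.1 ≤ π ⁻¹ᵁ U₂.1 := hV₂.trans inf_le_right
  refine ⟨V₂.1, v2, hyV₂, ?_⟩
  -- the transition functions on `U₂`
  obtain ⟨q, hq⟩ := (d'.he'.restrict u2).exists_smul (res L u1 d.e)
  have hG : ∀ i, ∃ g : Fin n → Γ(X, U₂.1), res ΩX u1 (d.w i) = ∑ j, g j • res ΩX u2 (d'.w j) := by
    intro i
    obtain ⟨g, hg⟩ := (d'.hw U₂.1 u2).2 (res ΩX u1 (d.w i))
    exact ⟨g, by rw [← hg, comb_apply]⟩
  choose G hG using hG
  -- on `X`
  have x1 : res ωX u1 ((φX d.U).symm (exteriorPower.ιMulti _ n d.w)) =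
      (Matrix.of G).det • res ωX u2 ((φX d'.U).symm (exteriorPower.ιMulti _ n d'.w)) := by
    refine (hφX d.U U₂ u1 d.w).trans ?_
    have e1 : (fun j => res ΩX u1 (d.w j)) =
        fun i => ∑ j, (Matrix.of G) i j • res ΩX u2 (d'.w j) := funext fun i => hG i
    rw [e1, phi_symm_alt φX U₂ (Matrix.of G) (fun j => res ΩX u2 (d'.w j))]
    congr 1
    exact (hφX d'.U U₂ u2 d'.w).symm
  have x2 : res _ v1 (d.n' φX) =
      (pl π p2 (Matrix.of G).det * pl π p2 q ^ (N - 1)) • res _ v2 (d'.n' φX) := by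
    unfold Dat.n'
    rw [res_pmk π ωX L d.hV p2 u1 v1, res_pmk π ωX L d'.hV p2 u2 v2, x1, hq, pmk_smul]
  -- on `Y`
  have y1 : (resO Y (v1.trans d.hV) (R.t d.U d.e d.he)) ^ (N - 1) • res ωY v1 d.m =
      pl π p2 (Matrix.of G).det •
        ((resO Y (v2.trans d'.hV) (R.t d'.U d'.e d'.he)) ^ (N - 1) • res ωY v2 d'.m) := by
    have r1 := (d.restrict hφY V₂ v1).rel
    have r2 := (d'.restrict hφY V₂ v2).rel
    refine r1.trans ?_
    have r3 := congrArg (fun z : Sec ωY V₂.1 => pl π p2 (Matrix.of G).det • z) r2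
    refine Eq.trans ?_ r3.symm
    have e1 : (fun i => appS c V₂.1 (psec π ΩX (v1.trans d.hV) (d.w i))) =
        fun i => ∑ j, ((Matrix.of G).map (pl π p2)) i j •
          appS c V₂.1 (psec π ΩX (v2.trans d'.hV) (d'.w j)) := by
      funext i
      have e2 : psec π ΩX (v1.trans d.hV) (d.w i) = psec π ΩX p2 (res ΩX u1 (d.w i)) := by
        rw [← res_psec π ΩX (v1.trans d.hV) p2 u1 le_rfl, res_self]
      have e3 : ∀ j, psec π ΩX (v2.trans d'.hV) (d'.w j) = psec π ΩX p2 (res ΩX u2 (d'.w j)) := by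
        intro j
        rw [← res_psec π ΩX (v2.trans d'.hV) p2 u2 le_rfl, res_self]
      rw [e2, hG, psec_sum, map_sum]
      refine Finset.sum_congr rfl fun j _ => ?_
      rw [psec_smul, map_smul, e3]
      rfl
    change (φY V₂).symm (exteriorPower.ιMulti _ n (fun i => appS c V₂.1 (psec π ΩX (v1.trans d.hV) (d.w i)))) =
      pl π p2 (Matrix.of G).det •
      (φY V₂).symm (exteriorPower.ιMulti _ n (fun i => appS c V₂.1 (psec π ΩX (v2.trans d'.hV) (d'.w i))))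
    have e4 := phi_symm_alt φY V₂ ((Matrix.of G).map (pl π p2))
      (fun j => appS c V₂.1 (psec π ΩX (v2.trans d'.hV) (d'.w j)))
    rw [← e1] at e4
    refine e4.trans ?_
    rw [RingHom.map_det]
    rfl
  -- change of frame of the root
  have t1 : resO Y (v2.trans d'.hV) (R.t d'.U d'.e d'.he) =
      resO Y (v1.trans d.hV) (R.t d.U d.e d.he) * pl π p2 q := by
    have g1 : CycCov.IsGen L U₂.1 (res L u1 d.e) := cycGen (d.he'.restrict u1)
    have g2 : CycCov.IsGen L U₂.1 (res L u2 d'.e) := cycGen (d'.he'.restrict u2)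
    have s1 := R.t_res d.U U₂ u1 d.e d.he g1
    have s2 := R.t_res d'.U U₂ u2 d'.e d'.he g2
    have g3 : CycCov.IsGen L U₂.1 (q • res L u2 d'.e) := hq ▸ g1
    have s3 := R.t_smul U₂ (res L u2 d'.e) g2 q g3
    have s4 : R.t U₂ (q • res L u2 d'.e) g3 = R.t U₂ (res L u1 d.e) g1 := by
      congr 1
      exact hq.symm
    have s5 : resO Y p2 (R.t U₂ (res L u2 d'.e) g2) =
        resO Y p2 (R.t U₂ (res L u1 d.e) g1) * pl π p2 q := by
      rw [← s3, s4, map_mul]
      rfl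
    have s6 : resO Y p2 (R.t U₂ (res L u1 d.e) g1) = resO Y (v1.trans d.hV) (R.t d.U d.e d.he) :=
      (congrArg (resO Y p2) s1).symm.trans (resO_resO _ _ _)
    have s7 : resO Y p2 (R.t U₂ (res L u2 d'.e) g2) = resO Y (v2.trans d'.hV) (R.t d'.U d'.e d'.he) :=
      (congrArg (resO Y p2) s2).symm.trans (resO_resO _ _ _)
    rw [← s6, ← s7, s5]
  -- compare
  have m2 : IsGen (res ωY v2 d'.m) := d'.hm.restrict v2
  have k1 : res ωY v1 d.m = resO Y v2 a • res ωY v2 d'.m := by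
    rw [← res_smul, ← ha, res_res]
  have k2 : resO Y v2 b = pl π p2 (Matrix.of G).det * pl π p2 q ^ (N - 1) := by
    have h1 : resO Y v2 b • res _ v2 (d'.n' φX) = res _ v1 (d.n' φX) := by
      rw [← res_smul, ← hb, res_res]
    rw [x2] at h1
    have h2 : IsGen (res _ v2 (d'.n' φX)) := (d'.isGen_n' hφX).restrict v2
    apply h2.equiv.injective
    rw [h2.equiv_apply, h2.equiv_apply]
    exact h1
  rw [k2]
  have k3 : (resO Y (v1.trans d.hV) (R.t d.U d.e d.he)) ^ (N - 1) *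
      (resO Y v2 a - pl π p2 (Matrix.of G).det * pl π p2 q ^ (N - 1)) = 0 := by
    have h1 := y1
    rw [k1, t1, mul_pow, smul_smul, smul_smul] at h1
    have h2 := m2.equiv.injective (a₁ := (resO Y (v1.trans d.hV) (R.t d.U d.e d.he)) ^ (N - 1) * resO Y v2 a)
      (a₂ := pl π p2 (Matrix.of G).det * ((resO Y (v1.trans d.hV) (R.t d.U d.e d.he)) ^ (N - 1) *
        pl π p2 q ^ (N - 1))) (by rw [m2.equiv_apply, m2.equiv_apply]; exact h1)
    rw [mul_sub, h2]
    ring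
  have k4 : ∀ (k : ℕ) (z : Γ(Y, V₂.1)),
      (resO Y (v1.trans d.hV) (R.t d.U d.e d.he)) ^ k * z = 0 → z = 0 := by
    intro k
    induction k with
    | zero => intro z hz; rwa [pow_zero, one_mul] at hz
    | succ k ih =>
      intro z hz
      rw [pow_succ, mul_assoc] at hz
      exact d.reg V₂.1 v1 z (ih _ hz)
  exact (sub_eq_zero.mp (k4 _ _ k3)).symm

/-- **Hurwitz formula from local data.** -/
theorem nonempty_iso {ωX : X.Modules} {φX : Phi n ΩX ωX} (hφX : PhiComp φX) (hφY : PhiComp φY)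
    (H : ∀ y : Y, ∃ d : Dat R c φY, y ∈ d.V.1) :
    Nonempty (ωY ≅ CohB1.tensorMod ((Scheme.Modules.pullback π).obj ωX)
      (CohB1.tensorPow ((Scheme.Modules.pullback π).obj L) (N - 1))) := by
  refine nonempty_iso_of_gens (ι := Dat R c φY) (B := fun d => d.V.1) ?_ _ _ (fun d => d.m)
    (fun d => d.n' φX) (fun d => d.hm) (fun d => d.isGen_n' hφX)
    (fun d d' h => Dat.transition hφX hφY d d' h)
  rw [Opens.isBasis_iff_nbhd]
  intro O y hy
  obtain ⟨d, hd⟩ := H y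
  obtain ⟨V', hV', hyV'⟩ := K922.Quot.exists_affine_nhd (X := Y) (U := O ⊓ d.V.1) (x := y) ⟨hy, hd⟩
  exact ⟨_, ⟨d.restrict hφY V' (hV'.trans inf_le_right), rfl⟩, hyV', hV'.trans inf_le_left⟩

end K419.Hurwitz
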