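import Groth.Agent.S2949
import Groth.Agent.S9549
import Groth.Agent.S10962
import Groth.Agent.Coherent.K51.CIGood
import Groth.Agent.Sga5.SmoothField
import Groth.Agent.Lefpen.H705.ClosedPoint
import Groth.Agent.Sga5.AmpleFib
import Groth.Agent.Lefx.H80.NhdPic

/-!
# Picard groups of smooth schemes finite over projective space and of ample divisors on them
-/

set_option autoImplicit false
universe u
open CategoryTheory CategoryTheory.Limits AlgebraicGeometry TopologicalSpace

namespace K419.PicStep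

open Groth.Agent Groth.Agent.Coherent.K51

variable {N : ℕ} {k : Type u} [Field k]

/-- Powers of the ideal of a divisor in the class `O(-b)`. -/
theorem nonempty_tensorPow {Z : Scheme.{u}} (f : Z ⟶ CohB1.ProjSpace N k) (J : Z.IdealSheafData) {b : ℕ}
    (hJ : Nonempty (ClSub.idealMod J ≅ (Scheme.Modules.pullback f).obj (Twist.twistProjSpace N k (-(b : ℤ)))))
    (m : ℕ) : Nonempty (CohB1.tensorPow (ClSub.idealMod J) m ≅
      (Scheme.Modules.pullback f).obj (Twist.twistProjSpace N k (-((m * b : ℕ) : ℤ)))) := by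
  induction m with
  | zero =>
    obtain ⟨e⟩ := Groth.Agent.S10962.nonempty_twist_zero (n := N) (R := k)
    simp only [Nat.zero_mul, Nat.cast_zero, neg_zero]
    exact ⟨((Groth.Agent.Ega3B.PullTensor.nonempty_pullUnitIso f).some).symm ≪≫ (Scheme.Modules.pullback f).mapIso e.symm⟩
  | succ m ih =>
    obtain ⟨e⟩ := ih
    obtain ⟨e'⟩ := CIGood.nonempty_tensor_ideal f J hJ (-((m * b : ℕ) : ℤ))
    have h : (-((m * b : ℕ) : ℤ)) - b = -(((m + 1) * b : ℕ) : ℤ) := by push_cast; ring
    rw [h] at e'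
    exact ⟨Groth.Agent.Ega2.Tens.mapTIso e (Iso.refl _) ≪≫ e'⟩

/-- Restriction of Picard groups to a divisor in the class of `f^* O(b)`, `b ≥ 1`, on a smooth projective scheme of
dimension `≥ 2`. -/
theorem pic_bij {Z : Scheme.{u}} [Z.Over (Spec (CommRingCat.of k))] [IsProper (Z ↘ Spec (CommRingCat.of k))]
    (n : ℕ) (hn : 2 ≤ n) [hsm : SmoothOfRelativeDimension n (Z ↘ Spec (CommRingCat.of k))]
    (f : Z ⟶ CohB1.ProjSpace N k) (J : Z.IdealSheafData) {b : ℕ}
    (hamp : CohB1.IsAmple ((Scheme.Modules.pullback f).obj (Twist.twistProjSpace N k b)))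
    (hJ : Nonempty (ClSub.idealMod J ≅ (Scheme.Modules.pullback f).obj (Twist.twistProjSpace N k (-(b : ℤ)))))
    {d : ℕ} (hd : 3 ≤ d) (hgood : CIGood.Good (J.subschemeι ≫ f) d) :
    (∀ M M' : Z.Modules, PicF.IsInvertible M → PicF.IsInvertible M' →
      Nonempty ((Scheme.Modules.pullback J.subschemeι).obj M ≅ (Scheme.Modules.pullback J.subschemeι).obj M') →
        Nonempty (M ≅ M')) ∧
      ∀ L : J.subscheme.Modules, PicF.IsInvertible L →
        ∃ M : Z.Modules, PicF.IsInvertible M ∧ Nonempty ((Scheme.Modules.pullback J.subschemeι).obj M ≅ L) := by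
  have hln : IsLocallyNoetherian Z := LocallyOfFiniteType.isLocallyNoetherian (Z ↘ Spec (CommRingCat.of k))
  have hs : Smooth (Z ↘ Spec (CommRingCat.of k)) := SmoothOfRelativeDimension.smooth n _
  have hinv : ClSub.IsInverseOf ((Scheme.Modules.pullback f).obj (Twist.twistProjSpace N k b)) (ClSub.idealMod J) := by
    obtain ⟨e⟩ := CIGood.nonempty_tensor_ideal f J hJ b
    obtain ⟨e0⟩ := Groth.Agent.S10962.nonempty_twist_zero (n := N) (R := k)
    rw [sub_self] at e
    exact ⟨e ≪≫ (Scheme.Modules.pullback f).mapIso e0 ≪≫ (Groth.Agent.Ega3B.PullTensor.nonempty_pullUnitIso f).some⟩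
  refine Groth.Agent.S2949.result k Z J _ hinv hamp (fun x hx => ?_) (fun m hm i hi => ?_) (fun x hx hxs => ?_)
  · apply Groth.Agent.Sga5.SmoothField.two_le_depth (Z ↘ Spec (CommRingCat.of k))
    rw [Groth.Agent.Lefpen.H705.ClosedPoint.ringKrullDim_stalk (Z ↘ Spec (CommRingCat.of k)) n x hx]
    exact_mod_cast hn
  · obtain ⟨e⟩ := nonempty_tensorPow f J hJ m
    have h1 := hgood.van (-((m * b : ℕ) : ℤ)) i (by omega) (by omega)
    have h2 := Groth.Agent.Flat2F.HHSeq.subsingleton_HH_of_iso
      ((Scheme.Modules.pullbackComp J.subschemeι f).symm.app _ ≪≫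
        (Scheme.Modules.pullback J.subschemeι).mapIso e.symm) i h1
    have h3 : Subsingleton (Coh.HH Z ((Scheme.Modules.pushforward J.subschemeι).obj
        ((Scheme.Modules.pullback J.subschemeι).obj (CohB1.tensorPow (ClSub.idealMod J) m))) i) :=
      (Groth.Agent.CurvesC.CurveNum.hhPush J.subschemeι _ i).symm.toEquiv.subsingleton
    have hM : PicF.IsInvertible (CohB1.tensorPow (ClSub.idealMod J) m) :=
      Groth.Agent.Lefx.H80.NhdPic.isInvertible_of_iso e.symm (Groth.Agent.Fdesc.LocGen.isInvertible_pullback f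
        (Groth.Agent.Ega3B.ProjFrame.isInvertible_twistProjSpace N k _))
    exact Groth.Agent.Flat2F.HHSeq.subsingleton_HH_of_iso (Groth.Agent.VarietyB.ProjForm.projIsoUnit J.subschemeι
      (Groth.Agent.VarietyB.TensCoh.HasBases.of_isFinLocFree
        (Groth.Agent.FormalA.ThickSurj.isFinLocFree_of_isInvertible hM))).symm i h3
  · have := Groth.Agent.Sga5.SmoothField.isRegularLocalRing_stalk (Z ↘ Spec (CommRingCat.of k)) x
    exact Groth.Agent.S9549.result (Z.presheaf.stalk x)

end K419.PicStep
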