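import Groth.Agent.CycCov.K419.TauDiv
import Groth.Agent.CycCov.K419.CoordDim
import Groth.Agent.CycCov.K419.PicStep
import Groth.Agent.CycCov.K419.CanCoord

/-!
# The Picard group of a simple cyclic cover of projective space

`main`: `π : Y → P^n`, `n ≥ 4`, the simple cyclic cover branched along a smooth hypersurface, `π^* : Pic P^n → Pic Y` is
bijective.
-/

set_option autoImplicit false
universe u
open CategoryTheory CategoryTheory.Limits AlgebraicGeometry Opposite TopologicalSpace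
open Groth.Agent.Fdesc.LocGen

namespace K419.PicPn

open Groth.Agent Groth.Agent.Fga.PicMon K926.Frame K926.Loc K926.CovSch K419.TauDiv
open Groth.Agent.Dix.IdealModCartier Groth.Agent.Coherent.K51

section

variable {k : Type u} [Field k] {X : Scheme.{u}} {L : X.Modules} {N : ℕ}
  {s : Coh.structureModule X ⟶ CohB1.tensorPow L N} {f : X ⟶ Spec (CommRingCat.of k)}

theorem coord_ne_zero [IsIntegral X] [Smooth f] {D : Fin 1 → X.IdealSheafData}
    (hL : PicF.IsInvertible L) (hD : LogNCD.IsNCD D f)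
    (hs : CycCov.IsZeroDiv (CohB1.tensorPow L N) s (CycCov.divIdeal D (fun _ => 1))) {U : X.Opens} {x : X} (hx : x ∈ U)
    {e : Γ(L, U)} (he : IsGen e) {g : Γ(X, U)} (hg : sec s U = g • lp e N) : g ≠ 0 := by
  rintro rfl
  obtain ⟨d, hxd, hdU, -⟩ := exists_locData_normalized f hL hD hs hx
  have hne : Nonempty d.U.1 := ⟨⟨x, hxd⟩⟩
  have h1 := coord_res hdU hg
  rw [map_zero, zero_smul, d.hs] at h1
  have h2 : d.u * ∏ j, d.c.g j ^ 1 = 0 := by
    apply (isGen_lp d.he N).ext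
    rw [zero_smul]
    exact h1
  have h3 : ∀ j, d.c.g j ≠ 0 := fun j => by
    rcases hj : d.c.e j with _ | l
    · rw [d.c.g_none j hj]
      exact one_ne_zero
    · rw [d.c.g_some j l hj]
      exact K926.Loc.coord_ne_zero (Set.nonempty_coe_sort.mp hne) d.coord l
  rcases mul_eq_zero.mp h2 with h | h
  · exact d.hu.ne_zero h
  · obtain ⟨j, -, hj⟩ := Finset.prod_eq_zero_iff.mp h
    exact h3 j (pow_eq_zero_iff (one_ne_zero) |>.mp hj)

/-- The local equations of the branch divisor. -/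
theorem fr_prop [IsIntegral X] [Smooth f] {D : Fin 1 → X.IdealSheafData}
    (hL : PicF.IsInvertible L) (hD : LogNCD.IsNCD D f)
    (hs : CycCov.IsZeroDiv (CohB1.tensorPow L N) s (CycCov.divIdeal D (fun _ => 1))) (d : Fr L) (g : Γ(X, d.U))
    (hg : sec s d.U = g • lp d.e N) :
    g ∈ nonZeroDivisors Γ(X, d.U) ∧ (CycCov.divIdeal D (fun _ => 1)).ideal ⟨d.U, d.hU⟩ = Ideal.span {g} := by
  refine ⟨?_, (span_coord hs ⟨d.U, d.hU⟩ d.he hg).symm⟩
  by_cases hne : Nonempty d.U
  · obtain ⟨⟨x, hx⟩⟩ := id hne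
    exact mem_nonZeroDivisors_of_ne_zero (coord_ne_zero hL hD hs hx d.he hg)
  · have hbot : d.U = ⊥ := by
      rw [eq_bot_iff]
      intro x hx
      exact hne ⟨⟨x, hx⟩⟩
    have hsub : ∀ V : X.Opens, V = ⊥ → Subsingleton Γ(X, V) := by
      rintro _ rfl
      infer_instance
    have := hsub d.U hbot
    exact mem_nonZeroDivisors_iff_right.mpr fun x _ => Subsingleton.elim _ _

/-- The branch divisor is in the class of `L^N`. -/
theorem isInverseOf_branch [IsIntegral X] [Smooth f] {D : Fin 1 → X.IdealSheafData}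
    (hL : PicF.IsInvertible L) (hD : LogNCD.IsNCD D f)
    (hs : CycCov.IsZeroDiv (CohB1.tensorPow L N) s (CycCov.divIdeal D (fun _ => 1))) :
    ClSub.IsInverseOf (CohB1.tensorPow L N) (ClSub.idealMod (CycCov.divIdeal D (fun _ => 1))) := by
  refine K980.Kfour.nonempty_iso_of_section _ (sec s ⊤) fun x => ?_
  obtain ⟨d, hd, -⟩ := exists_fr hL ⊤ x trivial
  obtain ⟨g, hg⟩ := exists_coord d.he s
  obtain ⟨h1, h2⟩ := fr_prop hL hD hs d g hg
  exact ⟨d.U, lp d.e N, g, hd, isGen_lp d.he N, by rw [res_sec, hg], genOn_of_affine (U := ⟨d.U, d.hU⟩) h1 h2⟩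

end

variable {k : Type u} [Field k] {n : ℕ} {Y : Scheme.{u}}

theorem nonempty_of_inverse (π : Y ⟶ CohB1.ProjSpace n k) (a : ℤ) {P Q : Y.Modules}
    (hP : mc P = mc ((Scheme.Modules.pullback π).obj (Twist.twistProjSpace n k a))) (h : ClSub.IsInverseOf P Q) :
    Nonempty (Q ≅ (Scheme.Modules.pullback π).obj (Twist.twistProjSpace n k (-a))) := by
  obtain ⟨e⟩ := h
  have h1 : mc P * mc Q = 1 := by
    rw [← mc_tensor, mc_eq e, mc_one]
  rw [← mc_eq_iff]
  have h2 := CanPn.mc_pull_mul π (-a) a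
  rw [neg_add_cancel, CanPn.mc_pull_zero] at h2
  calc mc Q = (mc ((Scheme.Modules.pullback π).obj (Twist.twistProjSpace n k (-a))) *
        mc ((Scheme.Modules.pullback π).obj (Twist.twistProjSpace n k a))) * mc Q := by rw [h2, one_mul]
    _ = _ := by rw [mul_assoc, ← hP, h1, mul_one]

/-- **The Picard group of a simple cyclic cover of `P^n`, `n ≥ 4`.** -/
theorem main (hn : 4 ≤ n) (r d : ℕ) (hr : 0 < r) (hrk : (r : k) ≠ 0) (hd : 0 < d)
    (D : Fin 1 → (CohB1.ProjSpace n k).IdealSheafData) (hD : LogNCD.IsNCD D (CohB1.ProjSpace.toSpec n k))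
    (s : Coh.structureModule (CohB1.ProjSpace n k) ⟶ CohB1.tensorPow (Twist.twistProjSpace n k d) r)
    (hs : CycCov.IsZeroDiv (CohB1.tensorPow (Twist.twistProjSpace n k d) r) s (CycCov.divIdeal D (fun _ => 1)))
    (π : Y ⟶ CohB1.ProjSpace n k) (R : CycCov.Root (Twist.twistProjSpace n k d) r s π) (hR : CycCov.IsSimple R)
    (M : Y.Modules) (hM : PicF.IsInvertible M) :
    ∃! m : ℤ, Nonempty (M ≅ (Scheme.Modules.pullback π).obj (Twist.twistProjSpace n k m)) := by
  have hL := K711.TwistCls.isInvertible_twist n k (d : ℤ)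
  have hsm : Smooth (CohB1.ProjSpace.toSpec n k) := SmoothOfRelativeDimension.smooth n _
  have hfin : IsFinite π := isFinite_of_simple hL hr R hR
  set I := CycCov.divIdeal D (fun _ => 1) with hIdef
  obtain ⟨J, hJ, e, he⟩ := exists_div hL hr R hR I (fun d g hg => fr_prop hL hD hs d g hg)
  have hI := isInverseOf_branch hL hD hs
  -- the ideal of the branch divisor
  have hI' : Nonempty (ClSub.idealMod I ≅ (Scheme.Modules.pullback (𝟙 (CohB1.ProjSpace n k))).obj
      (Twist.twistProjSpace n k (-((r * d : ℕ) : ℤ)))) := by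
    refine nonempty_of_inverse (𝟙 _) _ ?_ hI
    have h1 : mc (Twist.twistProjSpace n k (d : ℤ)) = mc ((Scheme.Modules.pullback (𝟙 (CohB1.ProjSpace n k))).obj
        (Twist.twistProjSpace n k (d : ℤ))) := mc_eq ((Scheme.Modules.pullbackId _).app _).symm
    rw [mc_tensorPow, h1, CanPn.mc_pull_pow]
    push_cast
    rfl
  have hJ' : Nonempty (ClSub.idealMod J ≅ (Scheme.Modules.pullback π).obj (Twist.twistProjSpace n k (-(d : ℤ)))) :=
    nonempty_of_inverse π _ rfl hJ
  -- cohomology of the branch divisor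
  obtain ⟨q, rfl⟩ : ∃ q, n = q + 1 := ⟨n - 1, by omega⟩
  have hgI : CIGood.Good (I.subschemeι ≫ 𝟙 _) q := CIGood.Good.step (CIGood.good_iso (Iso.refl _)) I hI'
  have hgJ : CIGood.Good (J.subschemeι ≫ π) q := by
    rw [← he]
    rw [Category.comp_id] at hgI
    exact hgI.iso_comp e
  let o1 : (CohB1.ProjSpace (q + 1) k).Over (Spec (CommRingCat.of k)) := ⟨CohB1.ProjSpace.toSpec (q + 1) k⟩
  let o2 : Y.Over (Spec (CommRingCat.of k)) := ⟨π ≫ CohB1.ProjSpace.toSpec (q + 1) k⟩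
  have p1 : IsProper (CohB1.ProjSpace (q + 1) k ↘ Spec (CommRingCat.of k)) :=
    inferInstanceAs (IsProper (CohB1.ProjSpace.toSpec (q + 1) k))
  have p2 : IsProper (Y ↘ Spec (CommRingCat.of k)) :=
    inferInstanceAs (IsProper (π ≫ CohB1.ProjSpace.toSpec (q + 1) k))
  have s1 : SmoothOfRelativeDimension (q + 1) (CohB1.ProjSpace (q + 1) k ↘ Spec (CommRingCat.of k)) :=
    inferInstanceAs (SmoothOfRelativeDimension (q + 1) (CohB1.ProjSpace.toSpec (q + 1) k))
  have s2 : SmoothOfRelativeDimension (q + 1) (Y ↘ Spec (CommRingCat.of k)) :=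
    CoordDim.relDim (π ≫ CohB1.ProjSpace.toSpec (q + 1) k) (q + 1)
      (CanCoord.exists_coord hL hD hs R hR hr hrk (CanMain.eq_of_isCoord _ _))
  have B1 := PicStep.pic_bij (q + 1) (by omega) (𝟙 (CohB1.ProjSpace (q + 1) k)) I (b := r * d)
    (Groth.Agent.Sga5.AmpleFib.isAmple_pullback _ (Groth.Agent.S10962.isAmple_of_pos k (q + 1)
      (by exact_mod_cast Nat.mul_pos hr hd))) hI' (d := q) (by omega) hgI
  have B2 := PicStep.pic_bij (q + 1) (by omega) π J (b := d)
    (Groth.Agent.Sga5.AmpleFib.isAmple_pullback _ (Groth.Agent.S10962.isAmple_of_pos k (q + 1)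
      (by exact_mod_cast hd))) hJ' (d := q) (by omega) hgJ
  -- comparison of the two restrictions
  have cmp : ∀ F : (CohB1.ProjSpace (q + 1) k).Modules, Nonempty ((Scheme.Modules.pullback J.subschemeι).obj
      ((Scheme.Modules.pullback π).obj F) ≅ (Scheme.Modules.pullback e.hom).obj
        ((Scheme.Modules.pullback I.subschemeι).obj F)) := fun F =>
    ⟨(Scheme.Modules.pullbackComp J.subschemeι π).app F ≪≫ (Scheme.Modules.pullbackCongr he.symm).app F ≪≫
      ((Scheme.Modules.pullbackComp e.hom I.subschemeι).app F).symm⟩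
  have cancel : ∀ F : J.subscheme.Modules, Nonempty ((Scheme.Modules.pullback e.hom).obj
      ((Scheme.Modules.pullback e.inv).obj F) ≅ F) := fun F =>
    ⟨(Scheme.Modules.pullbackComp e.hom e.inv).app F ≪≫ (Scheme.Modules.pullbackCongr e.hom_inv_id).app F ≪≫
      (Scheme.Modules.pullbackId _).app F⟩
  have cancel' : ∀ F : I.subscheme.Modules, Nonempty ((Scheme.Modules.pullback e.inv).obj
      ((Scheme.Modules.pullback e.hom).obj F) ≅ F) := fun F =>
    ⟨(Scheme.Modules.pullbackComp e.inv e.hom).app F ≪≫ (Scheme.Modules.pullbackCongr e.inv_hom_id).app F ≪≫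
      (Scheme.Modules.pullbackId _).app F⟩
  have ex : ∃ m : ℤ, Nonempty (M ≅ (Scheme.Modules.pullback π).obj (Twist.twistProjSpace (q + 1) k m)) := by
    obtain ⟨M₀, hM₀, ⟨i₀⟩⟩ := B1.2 ((Scheme.Modules.pullback e.inv).obj ((Scheme.Modules.pullback J.subschemeι).obj M))
      (isInvertible_pullback _ (isInvertible_pullback _ hM))
    obtain ⟨m, ⟨i₁⟩, -⟩ := Groth.Agent.S10960.result k (q + 1) (by omega) M₀ hM₀
    refine ⟨m, B2.1 M _ hM (isInvertible_pullback _ (K711.TwistCls.isInvertible_twist _ k m)) ?_⟩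
    obtain ⟨i₂⟩ := cmp (Twist.twistProjSpace (q + 1) k m)
    obtain ⟨i₃⟩ := cancel ((Scheme.Modules.pullback J.subschemeι).obj M)
    exact ⟨i₃.symm ≪≫ (Scheme.Modules.pullback e.hom).mapIso (i₀.symm ≪≫
      (Scheme.Modules.pullback I.subschemeι).mapIso i₁) ≪≫ i₂.symm⟩
  obtain ⟨m, ⟨i⟩⟩ := ex
  refine ⟨m, ⟨i⟩, ?_⟩
  rintro m' ⟨i'⟩
  obtain ⟨j⟩ := cmp (Twist.twistProjSpace (q + 1) k m)
  obtain ⟨j'⟩ := cmp (Twist.twistProjSpace (q + 1) k m')
  obtain ⟨c⟩ := cancel' ((Scheme.Modules.pullback I.subschemeι).obj (Twist.twistProjSpace (q + 1) k m))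
  obtain ⟨c'⟩ := cancel' ((Scheme.Modules.pullback I.subschemeι).obj (Twist.twistProjSpace (q + 1) k m'))
  obtain ⟨a⟩ := B1.1 (Twist.twistProjSpace (q + 1) k m') (Twist.twistProjSpace (q + 1) k m)
    (K711.TwistCls.isInvertible_twist _ k m') (K711.TwistCls.isInvertible_twist _ k m)
    ⟨c'.symm ≪≫ (Scheme.Modules.pullback e.inv).mapIso (j'.symm ≪≫
      (Scheme.Modules.pullback J.subschemeι).mapIso (i'.symm ≪≫ i) ≪≫ j) ≪≫ c⟩
  exact Groth.Agent.S10960.eq_of_iso k (q + 1) (by omega) a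

end K419.PicPn
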