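import Groth.Agent.CycCov.K419.CanCoord
import Groth.Agent.Dix.P1Van490
import Groth.Agent.S7638
import Groth.Agent.Vancyc.H878.Triv

/-!
# The Euler characteristic of the pulled back tangent sheaf on a rational curve
-/

set_option autoImplicit false
universe u

open CategoryTheory CategoryTheory.Limits AlgebraicGeometry Opposite TopologicalSpace

namespace K419.RatCurve

open Groth.Agent Groth.Agent.Fga.PicMon Groth.Agent.Dix.P1Van490 Groth.Agent.Dix.InterNum

variable (k : Type u) [Field k]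

theorem euler_unit : Curv2.euler k (P1 k) (Coh.structureModule (P1 k)) = 1 := by
  rw [Groth.Agent.CurvesC.CurveCoh.euler_eq k _ (topologicalKrullDim_P1 k), finrank_h0, finrank_h1]
  simp

/-- The degree is a homomorphism. -/
theorem deg_pull {n : ℕ} (h : P1 k ⟶ CohB1.ProjSpace n k) (e : ℤ)
    (he : ArSurf.curveDeg k (P1 k) ((Scheme.Modules.pullback h).obj (Twist.twistProjSpace n k 1)) = e) (m : ℤ) :
    ArSurf.curveDeg k (P1 k) ((Scheme.Modules.pullback h).obj (Twist.twistProjSpace n k m)) = m * e := by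
  have hinv : ∀ a : ℤ, PicF.IsInvertible ((Scheme.Modules.pullback h).obj (Twist.twistProjSpace n k a)) := fun a =>
    Fdesc.LocGen.isInvertible_pullback h (K711.TwistCls.isInvertible_twist n k a)
  have hadd : ∀ a b : ℤ, ArSurf.curveDeg k (P1 k) ((Scheme.Modules.pullback h).obj (Twist.twistProjSpace n k (a + b))) =
      ArSurf.curveDeg k (P1 k) ((Scheme.Modules.pullback h).obj (Twist.twistProjSpace n k a)) +
      ArSurf.curveDeg k (P1 k) ((Scheme.Modules.pullback h).obj (Twist.twistProjSpace n k b)) := by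
    intro a b
    rw [← curveDeg_tensor k (hinv a) (hinv b)]
    obtain ⟨e'⟩ := (mc_eq_iff _ _).mp ((mc_tensor _ _).trans (CanPn.mc_pull_mul h a b))
    exact curveDeg_congr k e'.symm
  let δ : ℤ →+ ℤ := AddMonoidHom.mk' (fun a => ArSurf.curveDeg k (P1 k) ((Scheme.Modules.pullback h).obj (Twist.twistProjSpace n k a))) hadd
  have h1 : δ m = m * δ 1 := by
    have := map_zsmul δ m 1
    simpa using this
  rw [← he]
  exact h1

/-- `χ(P¹, g^* E^∨) = n - deg(g^* det E)`. -/
theorem euler_pull_dual {Y : Scheme.{u}} {n : ℕ} {E : Y.Modules} (hE : FlatMod.IsFinLocFreeOfRank n E)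
    {ω : Y.Modules} (hω : ExtPow.IsExtPow n E ω) (g : P1 k ⟶ Y) :
    Curv2.euler k (P1 k) ((Scheme.Modules.pullback g).obj (RefHull.dual E)) =
      n - ArSurf.curveDeg k (P1 k) ((Scheme.Modules.pullback g).obj ω) := by
  have hT := K879.DualCmp.isFinLocFreeOfRank_dual hE
  have hTq : Coh.IsQCoh (RefHull.dual E) :=
    PerfA.QCohEpi.isQCoh_of_isFinLocFree (Krr.H463.DualLam.isFinLocFree_of_rank hT)
  obtain ⟨W, hW⟩ := Dual.H366.ExtQCoh.exists_isExtPow n hTq
  have hmul := DetDual.mc_mul hE hω hW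
  have hWi : PicF.IsInvertible W := Dual.H328.WUniv.isInvertible_extPow hT hW
  have hωi : PicF.IsInvertible ω := Dual.H328.WUniv.isInvertible_extPow hE hω
  have hgT : FlatMod.IsFinLocFreeOfRank n ((Scheme.Modules.pullback g).obj (RefHull.dual E)) :=
    Vancyc.H878.Triv.isFinLocFreeOfRank_pullback g hT
  have h1 := S7638.result k (P1 k) (topologicalKrullDim_P1 k).le n _ hgT _
    (K583.ExtPowPull.isExtPow_pullback g hTq hW)
  have h2 : ArSurf.curveDeg k (P1 k) ((Scheme.Modules.pullback g).obj W) +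
      ArSurf.curveDeg k (P1 k) ((Scheme.Modules.pullback g).obj ω) = 0 := by
    rw [← curveDeg_tensor k (Fdesc.LocGen.isInvertible_pullback g hWi)
      (Fdesc.LocGen.isInvertible_pullback g hωi)]
    have h3 : mc (CohB1.tensorMod ((Scheme.Modules.pullback g).obj W) ((Scheme.Modules.pullback g).obj ω)) =
        mc (Coh.structureModule (P1 k)) := by
      rw [mc_tensor, ← K420.IntPush.mc_pullback_tensor g hWi hωi]
      rw [← mc_tensor, ← mc_one] at hmul
      obtain ⟨e⟩ := (mc_eq_iff _ _).mp hmul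
      rw [mc_eq ((Scheme.Modules.pullback g).mapIso e), K420.IntPush.mc_pullback_unit, mc_one]
    obtain ⟨e⟩ := (mc_eq_iff _ _).mp h3
    rw [curveDeg_congr k e, curveDeg_unit]
  rw [curveDeg_eq k _ (topologicalKrullDim_P1 k)] at h2
  rw [← h1] at h2
  have h4 : Curv2.deg k (P1 k) ((Scheme.Modules.pullback g).obj (RefHull.dual E)) n =
      Curv2.euler k (P1 k) ((Scheme.Modules.pullback g).obj (RefHull.dual E)) - n * Curv2.euler k (P1 k) (Coh.structureModule (P1 k)) := rfl
  rw [h4, euler_unit] at h2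
  linarith

theorem exists_top {Y : Scheme.{u}} {n : ℕ} {E : Y.Modules} (hE : FlatMod.IsFinLocFreeOfRank n E) :
    ∃ ω : Y.Modules, ExtPow.IsExtPow n E ω :=
  Dual.H366.ExtQCoh.exists_isExtPow n
    (PerfA.QCohEpi.isQCoh_of_isFinLocFree (Krr.H463.DualLam.isFinLocFree_of_rank hE))

/-- **Euler characteristic of the pulled back tangent sheaf of a simple cyclic cover of `P^n`.** -/
theorem euler_eq {n : ℕ} (hn : 1 ≤ n) {Y : Scheme.{u}} (r d : ℕ) (hr : 0 < r) (hrk : (r : k) ≠ 0)
    (D : Fin 1 → (CohB1.ProjSpace n k).IdealSheafData) (hD : LogNCD.IsNCD D (CohB1.ProjSpace.toSpec n k))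
    (s : Coh.structureModule (CohB1.ProjSpace n k) ⟶ CohB1.tensorPow (Twist.twistProjSpace n k d) r)
    (hs : CycCov.IsZeroDiv (CohB1.tensorPow (Twist.twistProjSpace n k d) r) s (CycCov.divIdeal D (fun _ => 1)))
    (π : Y ⟶ CohB1.ProjSpace n k) (R : CycCov.Root (Twist.twistProjSpace n k d) r s π) (hR : CycCov.IsSimple R)
    [QuasiSeparated (π ≫ CohB1.ProjSpace.toSpec n k)] (g : P1 k ⟶ Y) (e : ℤ)
    (he : ArSurf.curveDeg k (P1 k) ((Scheme.Modules.pullback (g ≫ π)).obj (Twist.twistProjSpace n k 1)) = e) :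
    Curv2.euler k (P1 k) ((Scheme.Modules.pullback g).obj
      (RefHull.dual (Omega.sheaf (π ≫ CohB1.ProjSpace.toSpec n k)))) =
      e * ((n : ℤ) - ((r : ℤ) - 1) * d + 1) + n := by
  have hΩ := CanCoord.isFinLocFreeOfRank_omega (CohB1.ProjSpace.toSpec n k) n
    (K711.TwistCls.isInvertible_twist n k d) hr hrk hD hs π R hR
  obtain ⟨ω, hω⟩ := exists_top hΩ
  obtain ⟨e₁⟩ := CanPn.nonempty_iso hn r d hr hrk D hD s hs π R hR ω hω
  rw [euler_pull_dual k hΩ hω g, curveDeg_congr k ((Scheme.Modules.pullback g).mapIso e₁ ≪≫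
    (Scheme.Modules.pullbackComp g π).app _), deg_pull k (g ≫ π) e he]
  ring

end K419.RatCurve
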