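import Groth.Agent.CycCov.K926.CovSch
import Groth.Agent.Pi1C.ZeroScheme
import Groth.Agent.HypSq.K980.Kfour
import Groth.Agent.Ega2.NormCurve

/-!
# The tautological section of a cyclic cover and its divisor

* `exists_tau`: the root datum as a global section of `π^* L`.
* `Fr`: affine opens with a frame of `L`.
* `exists_div`: for a simple cyclic cover with section `s` regular, an ideal sheaf `J` on `Y`, generated by the root,
  with `idealMod J` inverse to `π^* L` and `V(J) ≅ V(I)` over `X`, `I` the ideal of zeros of `s`.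
* `isFinite_of_simple`: simple cyclic covers are finite.
-/

set_option autoImplicit false
universe u

open CategoryTheory CategoryTheory.Limits AlgebraicGeometry Opposite TopologicalSpace Polynomial
open Groth.Agent.Fdesc.LocGen

namespace K419.TauDiv

open K926.Frame K926.CovSch
open Groth.Agent.Dix.IdealModCartier

section

variable {X Y : Scheme.{u}} {L : X.Modules} {N : ℕ} {s : Coh.structureModule X ⟶ CohB1.tensorPow L N} {π : Y ⟶ X}

/-- An affine open with a frame of `L`. -/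
structure Fr (L : X.Modules) where
  U : X.Opens
  hU : IsAffineOpen U
  e : Γ(L, U)
  he : IsGen e

theorem exists_fr (hL : PicF.IsInvertible L) (O : X.Opens) (x : X) (hx : x ∈ O) : ∃ d : Fr L, x ∈ d.U ∧ d.U ≤ O := by
  obtain ⟨U, hU, hxU, hUO, e, he⟩ := Groth.Agent.Pi1C.ZeroScheme.exists_affine_isGen hL O x hx
  exact ⟨⟨U, hU, e, he⟩, hxU, hUO⟩

theorem iSup_fr (hL : PicF.IsInvertible L) : (⨆ d : Fr L, d.U) = ⊤ :=
  top_le_iff.1 fun x _ => by
    obtain ⟨d, hd, -⟩ := exists_fr hL ⊤ x trivial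
    exact Opens.mem_iSup.2 ⟨d, hd⟩

/-- The root in a frame. -/
noncomputable def Fr.t (d : Fr L) (R : CycCov.Root L N s π) : Γ(Y, π ⁻¹ᵁ d.U) :=
  R.t ⟨d.U, d.hU⟩ d.e (isGen_of_isGen d.he)

/-- The local tautological section. -/
noncomputable def Fr.τ (d : Fr L) (R : CycCov.Root L N s π) : Γ((Scheme.Modules.pullback π).obj L, π ⁻¹ᵁ d.U) :=
  d.t R • pullSec π d.e

theorem t_smul_eq (R : CycCov.Root L N s π) {V : X.Opens} (hV : IsAffineOpen V) {e e' : Γ(L, V)} (he : IsGen e)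
    (he' : IsGen e') :
    R.t ⟨V, hV⟩ e (isGen_of_isGen he) • pullSec π e = R.t ⟨V, hV⟩ e' (isGen_of_isGen he') • pullSec π e' := by
  obtain ⟨b, rfl⟩ := he'.exists_eq e
  rw [pullSec_smul, smul_smul]
  congr 1
  exact R.t_smul ⟨V, hV⟩ e' (isGen_of_isGen he') b (isGen_of_isGen he)

theorem res_τ (R : CycCov.Root L N s π) (d : Fr L) {V : X.Opens} (hV : IsAffineOpen V) (h : V ≤ d.U) :
    res _ (π.preimage_mono h) (d.τ R) =
      R.t ⟨V, hV⟩ (res L h d.e) (isGen_of_isGen (d.he.res h)) • pullSec π (res L h d.e) := by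
  unfold Fr.τ Fr.t
  rw [res_smul, t_ores R d.hU hV h d.he, res_pullSec]

/-- The root datum as a global section of `π^* L`. -/
theorem exists_tau (hL : PicF.IsInvertible L) (R : CycCov.Root L N s π) :
    ∃ t : Γ((Scheme.Modules.pullback π).obj L, ⊤), ∀ d : Fr L, res _ le_top t = d.τ R := by
  refine res_glue _ (fun d : Fr L => π ⁻¹ᵁ d.U) (fun _ => le_top) ?_ (fun d => d.τ R) ?_
  · intro y _
    obtain ⟨d, hd, -⟩ := exists_fr hL ⊤ (π y) trivial
    exact Opens.mem_iSup.2 ⟨d, hd⟩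
  · intro d d'
    refine res_ext _ (fun V : {V : X.affineOpens // V.1 ≤ d.U ⊓ d'.U} => π ⁻¹ᵁ V.1.1)
      (fun V => (le_inf (π.preimage_mono (V.2.trans inf_le_left)) (π.preimage_mono (V.2.trans inf_le_right)) :
        π ⁻¹ᵁ V.1.1 ≤ π ⁻¹ᵁ d.U ⊓ π ⁻¹ᵁ d'.U)) ?_ ?_
    · intro y hy
      obtain ⟨V, hV, hyV, hVU⟩ := exists_isAffineOpen_mem_and_subset (U := d.U ⊓ d'.U) (x := π y) hy
      exact Opens.mem_iSup.2 ⟨⟨⟨V, hV⟩, hVU⟩, hyV⟩
    · intro V
      rw [res_res, res_res]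
      have h1 := res_τ R d V.1.2 (V.2.trans inf_le_left)
      have h2 := res_τ R d' V.1.2 (V.2.trans inf_le_right)
      exact h1.trans ((t_smul_eq R V.1.2 (d.he.res (V.2.trans inf_le_left))
        (d'.he.res (V.2.trans inf_le_right))).trans h2.symm)

/-- Surjectivity of the chart. -/
theorem exists_poly (R : CycCov.Root L N s π) (hR : CycCov.IsSimple R) (d : Fr L) (c : Γ(Y, π ⁻¹ᵁ d.U)) :
    ∃ p : Γ(X, d.U)[X], p.eval₂ (π.app d.U).hom (d.t R) = c := by
  obtain ⟨f, hf⟩ := exists_coord d.he s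
  obtain ⟨z, rfl⟩ := (hR.2 ⟨d.U, d.hU⟩ d.e (isGen_of_isGen d.he) f hf).2 c
  obtain ⟨p, rfl⟩ := AdjoinRoot.mk_surjective z
  refine ⟨p, ?_⟩
  unfold CycCov.chart
  rw [AdjoinRoot.lift_mk]
  rfl

theorem dvd_of_eval (R : CycCov.Root L N s π) (hR : CycCov.IsSimple R) (d : Fr L) {f : Γ(X, d.U)}
    (hf : sec s d.U = f • lp d.e N) (p : Γ(X, d.U)[X]) (hp : p.eval₂ (π.app d.U).hom (d.t R) = 0) :
    Polynomial.X ^ N - Polynomial.C f ∣ p := by
  rw [← AdjoinRoot.mk_eq_zero]
  apply (hR.2 ⟨d.U, d.hU⟩ d.e (isGen_of_isGen d.he) f hf).1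
  rw [map_zero]
  unfold CycCov.chart
  rw [AdjoinRoot.lift_mk]
  exact hp

theorem t_pow (R : CycCov.Root L N s π) (d : Fr L) {f : Γ(X, d.U)} (hf : sec s d.U = f • lp d.e N) :
    d.t R ^ N = (π.app d.U).hom f := R.pow_eq ⟨d.U, d.hU⟩ d.e (isGen_of_isGen d.he) f hf

/-- Simple cyclic covers are finite. -/
theorem isFinite_of_simple (hL : PicF.IsInvertible L) (hN : 0 < N) (R : CycCov.Root L N s π)
    (hR : CycCov.IsSimple R) : IsFinite π := by
  have : IsAffineHom π := hR.1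
  refine Groth.Agent.Ega2.NormCurve.isFinite_of_cover π (fun d : Fr L => d.U) (fun d => d.hU) (iSup_fr hL) ?_
  intro d
  obtain ⟨f, hf⟩ := exists_coord d.he s
  have h1 := hR.2 ⟨d.U, d.hU⟩ d.e (isGen_of_isGen d.he) f hf
  have h2 : (AdjoinRoot.of (Polynomial.X ^ N - Polynomial.C f)).Finite := by
    have : Module.Finite Γ(X, d.U) (AdjoinRoot (Polynomial.X ^ N - Polynomial.C f)) :=
      (monic_X_pow_sub_C f hN.ne').finite_adjoinRoot
    exact RingHom.finite_algebraMap.mpr this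
  have h3 : (CycCov.chart R ⟨d.U, d.hU⟩ d.e (isGen_of_isGen d.he) f hf).comp
      (AdjoinRoot.of (Polynomial.X ^ N - Polynomial.C f)) = (π.app d.U).hom := by
    ext b
    unfold CycCov.chart
    rw [RingHom.comp_apply, AdjoinRoot.lift_of]
  rw [← h3]
  exact (RingHom.Finite.of_surjective _ h1.2).comp h2

/-- The root is a nonzerodivisor if the branch equation is. -/
theorem t_mem_nonZeroDivisors (hN : 0 < N) (R : CycCov.Root L N s π) (hR : CycCov.IsSimple R) (d : Fr L)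
    {f : Γ(X, d.U)} (hf : sec s d.U = f • lp d.e N) (hf0 : f ∈ nonZeroDivisors Γ(X, d.U)) :
    d.t R ∈ nonZeroDivisors Γ(Y, π ⁻¹ᵁ d.U) := by
  have h1 : (π.app d.U).hom f ∈ nonZeroDivisors Γ(Y, π ⁻¹ᵁ d.U) := by
    rw [mem_nonZeroDivisors_iff_right]
    intro c hc
    obtain ⟨p, rfl⟩ := exists_poly R hR d c
    set q : Γ(X, d.U)[X] := Polynomial.X ^ N - Polynomial.C f with hq
    have hm : q.Monic := monic_X_pow_sub_C f hN.ne'
    have h0 : q.eval₂ (π.app d.U).hom (d.t R) = 0 := by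
      simp [hq, t_pow R d hf]
    have h2 : p.eval₂ (π.app d.U).hom (d.t R) = (p %ₘ q).eval₂ (π.app d.U).hom (d.t R) := by
      conv_lhs => rw [← modByMonic_add_div p q]
      rw [eval₂_add, eval₂_mul, h0, zero_mul, add_zero]
    rw [h2] at hc ⊢
    have h3 : q ∣ (p %ₘ q) * Polynomial.C f := by
      apply dvd_of_eval R hR d hf
      rw [eval₂_mul, eval₂_C]
      exact hc
    by_cases hN1 : Subsingleton Γ(X, d.U)
    · have : (p %ₘ q) = 0 := Subsingleton.elim _ _
      rw [this, eval₂_zero]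
    have : Nontrivial Γ(X, d.U) := not_subsingleton_iff_nontrivial.mp hN1
    have h4 : (p %ₘ q) * Polynomial.C f = 0 := by
      by_contra hne
      have h5 : ((p %ₘ q) * Polynomial.C f).degree < q.degree :=
        lt_of_le_of_lt (by
          refine (degree_mul_le _ _).trans ?_
          refine (add_le_add_right degree_C_le _).trans ?_
          rw [add_zero]) (degree_modByMonic_lt p hm)
      exact hm.not_dvd_of_degree_lt hne h5 h3
    have h5 : (p %ₘ q) = 0 := by
      ext i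
      have h6 := congrArg (fun z => z.coeff i) h4
      simp only [coeff_mul_C, coeff_zero] at h6
      rw [coeff_zero]
      exact (mem_nonZeroDivisors_iff_right.mp hf0) _ h6
    rw [h5, eval₂_zero]
  rw [← t_pow R d hf] at h1
  rw [mem_nonZeroDivisors_iff_right] at h1 ⊢
  intro c hc
  apply h1
  obtain ⟨m, rfl⟩ := Nat.exists_eq_succ_of_ne_zero hN.ne'
  rw [pow_succ, mul_comm (d.t R ^ m), ← mul_assoc, hc, zero_mul]

/-- The quotient by the root: an element of `Γ(X, U)` is divisible by the root iff it is divisible by the branch equation. -/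
theorem dvd_iff (hN : 0 < N) (R : CycCov.Root L N s π) (hR : CycCov.IsSimple R) (d : Fr L)
    {f : Γ(X, d.U)} (hf : sec s d.U = f • lp d.e N) (b : Γ(X, d.U)) :
    d.t R ∣ (π.app d.U).hom b ↔ f ∣ b := by
  constructor
  · rintro ⟨c, hc⟩
    obtain ⟨p, rfl⟩ := exists_poly R hR d c
    have h1 : Polynomial.X ^ N - Polynomial.C f ∣ Polynomial.C b - Polynomial.X * p := by
      apply dvd_of_eval R hR d hf
      rw [eval₂_sub, eval₂_C, eval₂_mul, eval₂_X, hc, sub_self]
    obtain ⟨q, hq⟩ := h1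
    have h2 := congrArg (fun z => z.coeff 0) hq
    simp only [coeff_sub, coeff_C_zero, mul_coeff_zero, coeff_X_zero, zero_mul, sub_zero, coeff_X_pow] at h2
    rw [if_neg hN.ne, zero_sub] at h2
    exact ⟨-q.coeff 0, by rw [h2]; ring⟩
  · rintro ⟨c, rfl⟩
    rw [map_mul, ← t_pow R d hf]
    exact Dvd.dvd.mul_right (dvd_pow_self _ hN.ne') _

theorem exists_sub (R : CycCov.Root L N s π) (hR : CycCov.IsSimple R) (d : Fr L) (c : Γ(Y, π ⁻¹ᵁ d.U)) :
    ∃ b : Γ(X, d.U), d.t R ∣ c - (π.app d.U).hom b := by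
  obtain ⟨p, rfl⟩ := exists_poly R hR d c
  refine ⟨p.coeff 0, ⟨p.divX.eval₂ (π.app d.U).hom (d.t R), ?_⟩⟩
  conv_lhs => rw [← divX_mul_X_add p]
  rw [eval₂_add, eval₂_mul, eval₂_X, eval₂_C, coeff_add, coeff_C_zero, mul_coeff_zero, coeff_X_zero, mul_zero,
    zero_add]
  ring

/-- A morphism is a closed immersion if it is affine and surjective on the members of an affine open cover. -/
theorem isClosedImmersion_of_cover {Z W : Scheme.{u}} (g : Z ⟶ W) [IsAffineHom g] {ι : Type*} (U : ι → W.Opens)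
    (hU : ∀ i, IsAffineOpen (U i)) (hcov : ⨆ i, U i = ⊤) (h : ∀ i, Function.Surjective (g.app (U i)).hom) :
    IsClosedImmersion g := by
  have key := @HasAffineProperty.iff_of_iSup_eq_top @IsClosedImmersion _ IsClosedImmersion.hasAffineProperty
    Z W g ι (fun i => (⟨U i, hU i⟩ : W.affineOpens)) hcov
  rw [key]
  intro i
  refine ⟨(hU i).preimage g, ?_⟩
  have haux : ∀ V : W.Opens, V = U i → Function.Surjective (g.app V).hom := by
    rintro _ rfl
    exact h i
  change Function.Surjective ((g ∣_ U i).appTop).hom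
  rw [morphismRestrict_appTop]
  intro z
  obtain ⟨w, hw⟩ := (ConcreteCategory.bijective_of_isIso
    (Z.presheaf.map (eqToHom (image_morphismRestrict_preimage g (U i) ⊤)).op)).2 z
  obtain ⟨v, hv⟩ := haux ((U i).ι ''ᵁ ⊤) (Scheme.Opens.ι_image_top _) w
  exact ⟨v, (congrArg _ hv).trans hw⟩

/-- The divisor of the tautological section. -/
theorem exists_div (hL : PicF.IsInvertible L) (hN : 0 < N) (R : CycCov.Root L N s π) (hR : CycCov.IsSimple R)
    (I : X.IdealSheafData)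
    (hI : ∀ (d : Fr L) (f : Γ(X, d.U)), sec s d.U = f • lp d.e N → f ∈ nonZeroDivisors Γ(X, d.U) ∧
      I.ideal ⟨d.U, d.hU⟩ = Ideal.span {f}) :
    ∃ J : Y.IdealSheafData, ClSub.IsInverseOf ((Scheme.Modules.pullback π).obj L) (ClSub.idealMod J) ∧
      ∃ e : J.subscheme ≅ I.subscheme, e.hom ≫ I.subschemeι = J.subschemeι ≫ π := by
  have hπ : IsAffineHom π := hR.1
  obtain ⟨t, ht⟩ := exists_tau hL R
  have hM : PicF.IsInvertible ((Scheme.Modules.pullback π).obj L) := Groth.Agent.Fdesc.LocGen.isInvertible_pullback π hL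
  have hJ : ∀ d : Fr L, (PicF2.zeroScheme _ (homOf t)).ideal ⟨π ⁻¹ᵁ d.U, d.hU.preimage π⟩ = Ideal.span {d.t R} :=
    fun d => Groth.Agent.Pi1C.ZeroScheme.ideal_eq_span (homOf t) hM ⟨π ⁻¹ᵁ d.U, d.hU.preimage π⟩ (d.he.pullSec π) (by
      rw [sec_homOf]
      exact ht d)
  set J := PicF2.zeroScheme _ (homOf t) with hJdef
  have hgen : ∀ d : Fr L, GenOn J (d.t R) := by
    intro d
    obtain ⟨f, hf⟩ := exists_coord d.he s
    exact genOn_of_affine (U := ⟨π ⁻¹ᵁ d.U, d.hU.preimage π⟩) (t_mem_nonZeroDivisors hN R hR d hf (hI d f hf).1) (hJ d)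
  refine ⟨J, ?_, ?_⟩
  · refine K980.Kfour.nonempty_iso_of_section J t fun y => ?_
    obtain ⟨d, hd, -⟩ := exists_fr hL ⊤ (π y) trivial
    exact ⟨π ⁻¹ᵁ d.U, pullSec π d.e, d.t R, hd, d.he.pullSec π, ht d, hgen d⟩
  have hι : ∀ d : Fr L, RingHom.ker (J.subschemeι.app (π ⁻¹ᵁ d.U)).hom = Ideal.span {d.t R} := fun d => by
    rw [← hJ d]
    have h1 := Scheme.Hom.ker_apply J.subschemeι ⟨π ⁻¹ᵁ d.U, d.hU.preimage π⟩
    rw [Scheme.IdealSheafData.ker_subschemeι] at h1
    exact h1.symm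
  have happ : ∀ d : Fr L, ∀ b, ((J.subschemeι ≫ π).app d.U).hom b =
      (J.subschemeι.app (π ⁻¹ᵁ d.U)).hom ((π.app d.U).hom b) := fun d b => by
    rw [Scheme.Hom.comp_app]
    rfl
  have hcl : IsClosedImmersion (J.subschemeι ≫ π) := by
    refine isClosedImmersion_of_cover _ (fun d : Fr L => d.U) (fun d => d.hU) (iSup_fr hL) ?_
    intro d z
    obtain ⟨c, rfl⟩ := Scheme.Hom.app_surjective J.subschemeι (π ⁻¹ᵁ d.U) (d.hU.preimage π) z
    obtain ⟨b, hb⟩ := exists_sub R hR d c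
    refine ⟨b, ?_⟩
    rw [happ d]
    rw [← Ideal.mem_span_singleton, ← hι d, RingHom.mem_ker, map_sub, sub_eq_zero] at hb
    exact hb.symm
  have hker : (J.subschemeι ≫ π).ker = I := by
    refine Scheme.IdealSheafData.ext_of_iSup_eq_top (fun d : Fr L => (⟨d.U, d.hU⟩ : X.affineOpens)) (iSup_fr hL) ?_
    intro d
    obtain ⟨f, hf⟩ := exists_coord d.he s
    rw [Scheme.Hom.ker_apply, (hI d f hf).2]
    ext b
    have h3 : (J.subschemeι.app (π ⁻¹ᵁ d.U)).hom ((π.app d.U).hom b) = 0 ↔ d.t R ∣ (π.app d.U).hom b := by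
      rw [← Ideal.mem_span_singleton, ← hι d, RingHom.mem_ker]
    rw [RingHom.mem_ker, happ d, Ideal.mem_span_singleton]
    exact h3.trans (dvd_iff hN R hR d hf b)
  have h1 : (J.subschemeι ≫ π).ker = I.subschemeι.ker := by
    rw [hker, Scheme.IdealSheafData.ker_subschemeι]
  have h2 := IsClosedImmersion.isIso_lift I.subschemeι (J.subschemeι ≫ π) h1.symm
  exact ⟨asIso (IsClosedImmersion.lift I.subschemeι (J.subschemeι ≫ π) h1.symm.le), IsClosedImmersion.lift_fac _ _ _⟩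

end

end K419.TauDiv
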